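import Groth.Agent.KoszulCech.Scheme

/-!
# Koszul colimits against cohomology of unions of basic opens
-/

set_option autoImplicit false
set_option backward.isDefEq.respectTransparency false
set_option backward.isDefEq.respectTransparency.types false

noncomputable section

universe u

open Finset CategoryTheory Limits AlgebraicGeometry Opposite TopologicalSpace
open Groth.Agent.QCohBase

namespace Groth.Agent.KoszulCech

variable {X : Scheme.{u}} [CompactSpace X] [QuasiSeparatedSpace X] (fs : List Γ(X, ⊤))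
  (F : X.Modules) [F.IsQuasicoherent]

/-- The limit of Koszul cohomology of the global sections. -/
theorem nonempty_hlim (p : ℕ) :
    Nonempty (CohIII.koszulHLim fs (ModuleCat.of Γ(X, ⊤) (F.val.obj (op ⊤))) p ≃+
      Hc (sys fs.get F) (e₀ (r := fs.length)) p) := by
  obtain ⟨e⟩ := nonempty_koszulHLim_equiv (sys fs.get F) (idx (r := fs.length)) p
  have h : (idx (r := fs.length)).map fs.get = fs := List.map_get_finRange fs
  exact ⟨(h ▸ e).toAddEquiv⟩

lemma inter_basicOpen_fs {p : ℕ} (i : Fin (p + 1) → ULift.{u} (Fin fs.length)) :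
    inter (X := X.toTopCat) (fun j : ULift.{u} (Fin fs.length) => X.basicOpen (fs.get j.down)) i =
      bo fs.get (∅ ∪ univ.image (e₀ ∘ ((β.{u}).symm ∘ i))) := by
  rw [empty_union, bo_image]
  refine iInf_congr fun a => ?_
  show X.basicOpen (fs.get (i a).down) = X.basicOpen (fs.get (e₀ ((β.{u}).symm (i a))))
  rw [← β_down, Equiv.apply_symm_apply]

/-- The Cech cohomology of the basic opens. -/
theorem nonempty_cech_equiv (q : ℕ) :
    Nonempty (CohB1.cechH (fun i : ULift.{u} (Fin fs.length) => X.basicOpen (fs.get i.down)) F (q + 1) ≃+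
      CohIII.koszulHLim fs (ModuleCat.of Γ(X, ⊤) (F.val.obj (op ⊤))) (q + 2)) := by
  have hT : TransferData fs.get F
      (fun j : ULift.{u} (Fin fs.length) => (X.basicOpen (fs.get j.down) : Opens X.toTopCat))
      F.presheaf (fun W => W) (fun W => AddEquiv.refl _) :=
    { mono := fun h => h
      nat := fun h x => rfl
      inter_eq := fun i => inter_basicOpen_fs fs i }
  obtain ⟨e⟩ := nonempty_Hc_equiv_cech hT q
  obtain ⟨e'⟩ := nonempty_hlim fs F (q + 2)
  exact ⟨(cechHTopIso _ _ _).addCommGroupIsoToAddEquiv.trans (e.symm.trans e'.symm)⟩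

/-- The cohomology of a union of affine basic opens. -/
theorem nonempty_HHon_equiv [X.IsSeparated]
    (haff : ∀ i : Fin fs.length, IsAffineOpen (X.basicOpen (fs.get i))) (q : ℕ) :
    Nonempty (Coh.HHon X F (⨆ i : Fin fs.length, X.basicOpen (fs.get i)) (q + 1) ≃+
      CohIII.koszulHLim fs (ModuleCat.of Γ(X, ⊤) (F.val.obj (op ⊤))) (q + 2)) := by
  set U : X.Opens := ⨆ i : Fin fs.length, X.basicOpen (fs.get i) with hUdef
  let V : ULift.{u} (Fin fs.length) → U.toScheme.Opens := fun j => U.ι ⁻¹ᵁ X.basicOpen (fs.get j.down)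
  have hle : ∀ j : Fin fs.length, X.basicOpen (fs.get j) ≤ U :=
    fun j => le_iSup (fun i : Fin fs.length => X.basicOpen (fs.get i)) j
  have himg : ∀ {p : ℕ} (i : Fin (p + 1) → ULift.{u} (Fin fs.length)),
      U.ι ''ᵁ inter (X := U.toScheme.toTopCat) V i =
        bo fs.get (∅ ∪ univ.image (e₀ ∘ ((β.{u}).symm ∘ i))) := fun {p} i => by
    rw [← inter_basicOpen_fs]
    refine le_antisymm (le_iInf fun a => ?_) ?_
    · exact (U.ι.image_mono (iInf_le (fun b => V (i b)) a)).trans (U.ι.image_preimage_le _)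
    · have h : inter (X := X.toTopCat) (fun j : ULift.{u} (Fin fs.length) =>
          X.basicOpen (fs.get j.down)) i ≤ U := (iInf_le _ 0).trans (hle _)
      refine le_trans ?_ (U.ι.image_mono (le_iInf fun a => U.ι.preimage_mono (iInf_le _ a)))
      rw [Scheme.Hom.image_preimage_eq_opensRange_inf, Scheme.Opens.opensRange_ι]
      exact le_inf h le_rfl
  have hT : TransferData fs.get F (Y := U.toScheme.toTopCat) V (F.restrict U.ι).presheaf
      (fun W => U.ι ''ᵁ W) (fun W => (F.restrictAppIso U.ι W).addCommGroupIsoToAddEquiv) :=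
    { mono := fun h => U.ι.image_mono h
      nat := fun h x => rfl
      inter_eq := fun i => himg i }
  obtain ⟨e⟩ := nonempty_Hc_equiv_cech hT q
  obtain ⟨e'⟩ := nonempty_hlim fs F (q + 2)
  haveI : Coh.IsQCoh (F.restrict U.ι) := inferInstance
  have haffX : ∀ p, ∀ i : Fin (p + 1) → ULift.{u} (Fin fs.length),
      IsAffineOpen (inter (X := X.toTopCat) (fun j : ULift.{u} (Fin fs.length) =>
          X.basicOpen (fs.get j.down)) i : X.Opens) := by
    intro p
    induction p with
    | zero =>
      intro i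
      have : inter (X := X.toTopCat) (fun j : ULift.{u} (Fin fs.length) =>
          X.basicOpen (fs.get j.down)) i = X.basicOpen (fs.get (i 0).down) :=
        le_antisymm (iInf_le _ 0) (le_iInf fun k : Fin 1 => by rw [Fin.fin_one_eq_zero k])
      exact this ▸ haff _
    | succ p ih =>
      intro i
      have : inter (X := X.toTopCat) (fun j : ULift.{u} (Fin fs.length) =>
          X.basicOpen (fs.get j.down)) i = (X.basicOpen (fs.get (i 0).down) ⊓
            inter (X := X.toTopCat) (fun j : ULift.{u} (Fin fs.length) =>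
              X.basicOpen (fs.get j.down)) (fun a : Fin (p + 1) => i a.succ) : X.Opens) :=
        le_antisymm (le_inf (iInf_le _ 0) (le_iInf fun k : Fin (p + 1) => iInf_le _ k.succ))
          (le_iInf (Fin.cases inf_le_left fun k => inf_le_right.trans (iInf_le _ k)))
      exact this ▸ (haff _).inf (ih _)
  obtain ⟨ec, -⟩ := CechLinear.exists_cech_equiv (S := affineSystem U.toScheme) V
    (acyclic_of_isQCoh (F.restrict U.ι))
    (top_le_iff.1 fun x _ => by
      obtain ⟨j, hj⟩ := Opens.mem_iSup.1 x.2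
      exact Opens.mem_iSup.2 ⟨⟨j⟩, hj⟩)
    (fun n i => by
      show IsAffineOpen _
      rw [← U.ι.isAffineOpen_iff_of_isOpenImmersion, himg, ← inter_basicOpen_fs]
      exact haffX n i) (q + 1)
  exact ⟨AddEquiv.trans ec.symm (e.symm.trans e'.symm)⟩

section LowDegree

variable {r : ℕ} (f : Fin r → Γ(X, ⊤))

/-- Union of the basic opens. -/
abbrev unionBo : X.Opens := ⨆ i, X.basicOpen (f i)

lemma bo_tuple_le {p : ℕ} (j : Fin (p + 1) → Fin (idx (r := r)).length) :
    bo f (∅ ∪ univ.image (e₀ ∘ j)) ≤ unionBo f := by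
  rw [empty_union, bo_image]
  exact (iInf_le _ 0).trans (le_iSup (fun i => X.basicOpen (f i)) _)

lemma unionBo_le :
    unionBo f ≤ ⨆ j : Fin (idx (r := r)).length, bo f (∅ ∪ univ.image (e₀ ∘ fun _ : Fin 1 => j)) := by
  refine iSup_le fun i => ?_
  obtain ⟨j, rfl⟩ := List.get_of_mem (List.mem_finRange i)
  refine le_trans ?_ (le_iSup _ j)
  rw [empty_union, bo_image]
  exact le_iInf fun _ => le_rfl

lemma tuple_one (j : Fin 1 → Fin (idx (r := r)).length) : j = fun _ => j 0 :=
  funext fun a => by rw [Subsingleton.elim a 0]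

/-- Sections over the union as cochains of degree one. -/
def unionToC : Γ(F, unionBo f) →+ C (sys f F) (e₀ (r := r)) ∅ 1 :=
  AddMonoidHom.mk' (fun y j => (val f F).symm (mres F (bo_tuple_le f j) y)) fun a b =>
    funext fun j => by simp only [Pi.add_apply, map_add]

lemma val_unionToC (y : Γ(F, unionBo f)) (j : Fin 1 → Fin (idx (r := r)).length) :
    val f F (unionToC F f y j) = mres F (bo_tuple_le f j) y := AddEquiv.apply_symm_apply _ _

lemma val_d_one (s : C (sys f F) (e₀ (r := r)) ∅ 1) (i : Fin 2 → Fin (idx (r := r)).length) :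
    val f F (d (sys f F) ∅ s i) =
      mres F (bo_le f (union_subset_union_right (face_subset _ i 0))) (val f F (s (i ∘ (0 : Fin 2).succAbove))) -
      mres F (bo_le f (union_subset_union_right (face_subset _ i 1))) (val f F (s (i ∘ (1 : Fin 2).succAbove))) := by
  rw [d, D_apply, Fin.sum_univ_two, map_add, map_zsmul, map_zsmul,
    val_tr f F (union_subset_union_right (face_subset _ i 0)),
    val_tr f F (union_subset_union_right (face_subset _ i 1))]
  simp [sub_eq_add_neg]

lemma d_unionToC (y : Γ(F, unionBo f)) : d (sys f F) ∅ (unionToC F f y) = 0 := by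
  funext i
  refine (val f F).injective ?_
  rw [val_d_one, val_unionToC, val_unionToC, mres_mres, mres_mres, sub_self]
  exact (map_zero _).symm

lemma unionToC_injective : Function.Injective (unionToC F f) := fun a b h =>
  eq_of_iSup_le F (fun j : Fin (idx (r := r)).length => bo f (∅ ∪ univ.image (e₀ ∘ fun _ : Fin 1 => j)))
    (fun _ => bo_tuple_le f _) (unionBo_le f) a b fun j => by
      rw [← val_unionToC, ← val_unionToC, h]

lemma exists_unionToC (s : C (sys f F) (e₀ (r := r)) ∅ 1) (hs : d (sys f F) ∅ s = 0) :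
    ∃ y, unionToC F f y = s := by
  let W : Fin (idx (r := r)).length → X.Opens := fun j => bo f (∅ ∪ univ.image (e₀ ∘ fun _ : Fin 1 => j))
  let sf : ∀ j, Γ(F, W j) := fun j => val f F (s fun _ => j)
  have hc : TopCat.Presheaf.IsCompatible F.presheaf W sf := fun a b => by
    have h := congrArg (val f F) (congrFun hs ![b, a])
    rw [Pi.zero_apply, map_zero, val_d_one, sub_eq_zero] at h
    have hle : W a ⊓ W b ≤ bo f (∅ ∪ univ.image (e₀ ∘ ![b, a])) := by
      simp only [W, empty_union, bo_image]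
      refine le_iInf fun k => ?_
      fin_cases k
      · exact inf_le_right.trans (iInf_le _ 0)
      · exact inf_le_left.trans (iInf_le _ 0)
    have h' := congrArg (mres F hle) h
    rw [mres_mres, mres_mres] at h'
    have e0 : (![b, a] ∘ (0 : Fin 2).succAbove : Fin 1 → Fin (idx (r := r)).length) = fun _ => a := by
      funext z; fin_cases z; rfl
    have e1 : (![b, a] ∘ (1 : Fin 2).succAbove : Fin 1 → Fin (idx (r := r)).length) = fun _ => b := by
      funext z; fin_cases z; rfl
    rw [mres_val_congr (f := f) (F := F) s e0, mres_val_congr (f := f) (F := F) s e1] at h'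
    exact h'
  obtain ⟨y, hy, -⟩ := TopCat.Sheaf.existsUnique_gluing' ⟨F.presheaf, F.isSheaf⟩ W (unionBo f)
    (fun j => homOfLE (bo_tuple_le f _)) (unionBo_le f) sf hc
  refine ⟨y, funext fun j => (val f F).injective ?_⟩
  rw [val_unionToC, tuple_one j]
  exact hy (j 0)

lemma image_elim0_apps (i : Fin 0 → Fin (idx (r := r)).length) :
    (∅ : Finset (Fin r)) ∪ univ.image (e₀ ∘ i) = ∅ := by simp

lemma top_le_bo_elim0 (i : Fin 0 → Fin (idx (r := r)).length) :
    (⊤ : X.Opens) ≤ bo f (∅ ∪ univ.image (e₀ ∘ i)) := by rw [image_elim0_apps, bo_empty]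

/-- Cochains of degree zero are global sections. -/
def zeroEquiv : C (sys f F) (e₀ (r := r)) ∅ 0 ≃+ Γ(F, ⊤) where
  toFun s := mres F (top_le_bo_elim0 f Fin.elim0) (val f F (s Fin.elim0))
  invFun m := fun i => (val f F).symm (mres F (le_top : bo f (∅ ∪ univ.image (e₀ ∘ i)) ≤ ⊤) m)
  left_inv s := funext fun i => (val f F).injective (by
    obtain rfl : i = Fin.elim0 := funext fun a => a.elim0
    rw [AddEquiv.apply_symm_apply, mres_mres, mres_refl])
  right_inv m := by
    simp only [AddEquiv.apply_symm_apply, mres_mres, mres_refl]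
  map_add' a b := by rw [Pi.add_apply, map_add, map_add]

lemma d_zero (s : C (sys f F) (e₀ (r := r)) ∅ 0) :
    d (sys f F) ∅ s = unionToC F f (mres F (le_top : unionBo f ≤ ⊤) (zeroEquiv F f s)) := by
  funext j
  refine (val f F).injective ?_
  rw [val_unionToC, d, D_apply, Fin.sum_univ_one, map_zsmul,
    val_tr f F (union_subset_union_right (face_subset _ j 0)), mres_mres]
  simp only [Fin.val_zero, pow_zero, one_mul, one_smul]
  show _ = mres F _ (mres F _ (val f F (s Fin.elim0)))
  rw [mres_mres]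
  exact mres_val_congr s (funext fun a => a.elim0) _

theorem nonempty_ker_equiv :
    Nonempty ((mres F (le_top : unionBo f ≤ ⊤)).ker ≃+ Hc (sys f F) (e₀ (r := r)) 0) := by
  have h : ∀ s, s ∈ Zc (sys f F) (e₀ (r := r)) 0 ↔
      mres F (le_top : unionBo f ≤ ⊤) (zeroEquiv F f s) = 0 := fun s => by
    show d (sys f F) ∅ s = 0 ↔ _
    rw [d_zero, map_eq_zero_iff _ (unionToC_injective F f)]
  let φ : (mres F (le_top : unionBo f ≤ ⊤)).ker →+ Hc (sys f F) (e₀ (r := r)) 0 :=
    AddMonoidHom.mk' (fun m => Submodule.Quotient.mk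
      ⟨(zeroEquiv F f).symm m.1, (h _).2 (by rw [AddEquiv.apply_symm_apply]; exact m.2)⟩)
      (fun a b => by
        rw [← Submodule.Quotient.mk_add]
        exact congrArg _ (Subtype.ext (map_add (zeroEquiv F f).symm a.1 b.1)))
  refine ⟨AddEquiv.ofBijective φ ⟨fun a b hab => ?_, fun y => ?_⟩⟩
  · refine Subtype.ext ((zeroEquiv F f).symm.injective ?_)
    exact sub_eq_zero.1 (show (zeroEquiv F f).symm a.1 - (zeroEquiv F f).symm b.1 = 0 from
      (Submodule.Quotient.eq _).1 hab)
  · obtain ⟨⟨s, hs⟩, rfl⟩ := Submodule.mkQ_surjective _ y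
    exact ⟨⟨zeroEquiv F f s, (h s).1 hs⟩,
      congrArg Submodule.Quotient.mk (Subtype.ext ((zeroEquiv F f).symm_apply_apply s))⟩

theorem nonempty_coker_equiv :
    Nonempty (Γ(F, unionBo f) ⧸ (mres F (le_top : unionBo f ≤ ⊤)).range ≃+
      Hc (sys f F) (e₀ (r := r)) 1) := by
  let φ : Γ(F, unionBo f) ≃+ Zc (sys f F) (e₀ (r := r)) 1 :=
    AddEquiv.ofBijective (AddMonoidHom.mk'
      (fun y => (⟨unionToC F f y, d_unionToC F f y⟩ : Zc (sys f F) (e₀ (r := r)) 1))
      (fun a b => Subtype.ext (map_add (unionToC F f) a b)))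
      ⟨fun a b hab => unionToC_injective F f (congrArg Subtype.val hab), fun s => by
        obtain ⟨y, hy⟩ := exists_unionToC F f s.1 s.2
        exact ⟨y, Subtype.ext hy⟩⟩
  refine ⟨QuotientAddGroup.congr _ (Bc (sys f F) (e₀ (r := r)) 1).toAddSubgroup φ ?_⟩
  ext s
  constructor
  · rintro ⟨_, ⟨m, rfl⟩, rfl⟩
    refine ⟨(zeroEquiv F f).symm m, ?_⟩
    rw [d_zero, AddEquiv.apply_symm_apply]
    rfl
  · rintro ⟨w, hw⟩
    exact ⟨_, ⟨zeroEquiv F f w, rfl⟩, Subtype.ext ((d_zero F f w).symm.trans hw)⟩

end LowDegree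

end Groth.Agent.KoszulCech
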