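import Groth.Agent.KoszulCech.Sys
import Mathlib.Data.Fin.Tuple.Basic
import Mathlib.Order.Filter.AtTopBot.Finite
import Mathlib.Order.Filter.Finite

/-!
# Adjoining one index to the Cech cochains
-/

set_option autoImplicit false

noncomputable section

universe u

open Finset

namespace Groth.Agent.KoszulCech

variable {A : Type u} [CommRing A] {M : Type u} [AddCommGroup M] [Module A M]
  {ι : Type} [DecidableEq ι] {f : ι → A} (Z : Sys A M f) {r : ℕ} (e' : Fin (r + 1) → ι)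

/-- The weight of the first index. -/
def δ (x : Fin (r + 1)) : ℤ := if x = 0 then 1 else 0

lemma adm_δ : Adm e' δ {e' 0} ∅ := fun x hx => by
  obtain rfl : x = 0 := by_contra fun h => hx (if_neg h)
  simp

/-- Extension by zero. -/
def extZ (T : Finset ι) {p : ℕ} : C Z (e' ∘ Fin.succ) T p →ₗ[A] C Z e' T p :=
  LinearMap.pi fun i => if h : ∀ k, i k ≠ 0 then
    (Z.tr _ _).comp (LinearMap.proj fun k => (i k).pred (h k)) else 0

lemma image_succ {p : ℕ} (j : Fin p → Fin r) :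
    univ.image (e' ∘ (Fin.succ ∘ j)) = univ.image ((e' ∘ Fin.succ) ∘ j) := rfl

lemma extZ_succ (T : Finset ι) {p : ℕ} (s : C Z (e' ∘ Fin.succ) T p) (j : Fin p → Fin r) :
    extZ Z e' T s (Fin.succ ∘ j) = s j := by
  have h : ∀ k, (Fin.succ ∘ j) k ≠ 0 := fun k => Fin.succ_ne_zero (j k)
  simp only [extZ, LinearMap.pi_apply, dif_pos h]
  have : ∀ (a : Fin p → Fin r), a = j → Z.tr (T ∪ univ.image ((e' ∘ Fin.succ) ∘ a))
      (T ∪ univ.image (e' ∘ Fin.succ ∘ j)) (s a) = s j := by rintro a rfl; exact Z.tr_self _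
  exact this _ (funext fun k => Fin.pred_succ _)

lemma extZ_of_zero (T : Finset ι) {p : ℕ} (s : C Z (e' ∘ Fin.succ) T p) (i : Fin p → Fin (r + 1))
    (h : ∃ k, i k = 0) : extZ Z e' T s i = 0 := by
  simp only [extZ, LinearMap.pi_apply]
  rw [dif_neg (fun hc => hc h.choose h.choose_spec)]
  rfl

lemma exists_succ {p : ℕ} (i : Fin p → Fin (r + 1)) (h : ∀ k, i k ≠ 0) :
    ∃ j : Fin p → Fin r, i = Fin.succ ∘ j :=
  ⟨fun k => (i k).pred (h k), funext fun k => (Fin.succ_pred (i k) (h k)).symm⟩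

lemma succ_comp {p : ℕ} (j : Fin (p + 1) → Fin r) (k : Fin (p + 1)) :
    (Fin.succ ∘ j) ∘ k.succAbove = Fin.succ ∘ (j ∘ k.succAbove) := rfl

/-- Restriction to the old indices. -/
def restr (T : Finset ι) {p : ℕ} : C Z e' T p →ₗ[A] C Z (e' ∘ Fin.succ) T p :=
  LinearMap.pi fun j => LinearMap.proj (Fin.succ ∘ j)

lemma restr_apply (T : Finset ι) {p : ℕ} (s : C Z e' T p) (j : Fin p → Fin r) :
    restr Z e' T s j = s (Fin.succ ∘ j) := rfl

lemma restr_extZ (T : Finset ι) {p : ℕ} (s : C Z (e' ∘ Fin.succ) T p) :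
    restr Z e' T (extZ Z e' T s) = s :=
  funext fun j => extZ_succ Z e' T s j

lemma restr_d (T : Finset ι) {p : ℕ} (s : C Z e' T p) :
    restr Z e' T (d Z T s) = d Z T (restr Z e' T s) := by
  funext j
  simp only [restr_apply, d, D_apply]
  rfl

lemma d_extZ (T : Finset ι) {p : ℕ} (s : C Z (e' ∘ Fin.succ) T p) :
    d Z T (extZ Z e' T s) = extZ Z e' T (d Z T s) + D Z e' δ T T (extZ Z e' T s) := by
  funext i
  rw [Pi.add_apply]
  by_cases h : ∀ k, i k ≠ 0
  · obtain ⟨j, rfl⟩ := exists_succ i h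
    have h0 : D Z e' δ T T (extZ Z e' T s) (Fin.succ ∘ j) = 0 := by
      rw [D_apply]
      refine Finset.sum_eq_zero fun k _ => ?_
      simp [δ, Fin.succ_ne_zero]
    rw [h0, add_zero, extZ_succ]
    show restr Z e' T (d Z T (extZ Z e' T s)) j = _
    rw [restr_d, restr_extZ]
  · push Not at h
    rw [extZ_of_zero Z e' T (d Z T s) i h, zero_add, d, D_apply, D_apply]
    refine Finset.sum_congr rfl fun k _ => ?_
    by_cases hk : i k = 0
    · simp [δ, hk]
    · obtain ⟨l, hl⟩ := h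
      obtain ⟨l', hl'⟩ := Fin.exists_succAbove_eq (x := l) (y := k) (fun e => hk (e ▸ hl))
      rw [extZ_of_zero Z e' T s (i ∘ k.succAbove) ⟨l', by simp [hl', hl]⟩]
      simp

/-- Wedge with the new index. -/
def G {p : ℕ} : C Z (e' ∘ Fin.succ) {e' 0} p →ₗ[A] C Z e' ∅ (p + 1) :=
  (D Z e' δ {e' 0} ∅).comp (extZ Z e' {e' 0})

lemma d_G {p : ℕ} (b : C Z (e' ∘ Fin.succ) {e' 0} p) :
    d Z ∅ (G Z e' b) = - G Z e' (d Z {e' 0} b) := by
  simp only [G, LinearMap.comp_apply]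
  have h := D_D_add Z (u := fun _ => (1 : ℤ)) (v := δ) (adm_δ e') (Adm.refl e' _ ∅)
    (Adm.refl e' _ {e' 0}) (adm_δ e') (extZ Z e' {e' 0} b)
  rw [← d, ← d, d_extZ, map_add,
    D_D_self Z (Adm.refl e' _ _) (adm_δ e'), add_zero] at h
  exact eq_neg_of_add_eq_zero_left h

lemma loc_extZ {T T' : Finset ι} (h : T ⊆ T') {p : ℕ} (s : C Z (e' ∘ Fin.succ) T p) :
    loc Z T T' (extZ Z e' T s) = extZ Z e' T' (loc Z T T' s) := by
  funext i
  rw [loc_apply]
  by_cases hi : ∀ k, i k ≠ 0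
  · obtain ⟨j, rfl⟩ := exists_succ i hi
    rw [extZ_succ, extZ_succ]
    rfl
  · push Not at hi
    rw [extZ_of_zero Z e' T s i hi, extZ_of_zero Z e' T' _ i hi, map_zero]

lemma G_loc {p : ℕ} (a : C Z (e' ∘ Fin.succ) ∅ p) :
    G Z e' (loc Z ∅ {e' 0} a) = D Z e' δ ∅ ∅ (extZ Z e' ∅ a) := by
  rw [G, LinearMap.comp_apply, ← loc_extZ Z e' (empty_subset _), D_loc Z (empty_subset _) (adm_δ e')]

lemma restr_G {p : ℕ} (b : C Z (e' ∘ Fin.succ) {e' 0} p) : restr Z e' ∅ (G Z e' b) = 0 := by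
  funext j
  rw [restr_apply, G, LinearMap.comp_apply, D_apply]
  refine Finset.sum_eq_zero fun k _ => ?_
  simp [δ, Fin.succ_ne_zero]

lemma image_cons {p : ℕ} (j : Fin p → Fin (r + 1)) :
    univ.image (e' ∘ Fin.cons 0 j) = insert (e' 0) (univ.image (e' ∘ j)) := by
  ext x
  simp [mem_image, Fin.exists_fin_succ, eq_comm]

/-- The cochain on the tuples starting with the new index. -/
def head {p : ℕ} : C Z e' ∅ (p + 1) →ₗ[A] C Z (e' ∘ Fin.succ) {e' 0} p :=
  LinearMap.pi fun j => (Z.tr _ _).comp (LinearMap.proj (Fin.cons 0 (Fin.succ ∘ j)))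

lemma head_subset {p : ℕ} (j : Fin p → Fin r) :
    (∅ : Finset ι) ∪ univ.image (e' ∘ Fin.cons 0 (Fin.succ ∘ j)) =
      {e' 0} ∪ univ.image ((e' ∘ Fin.succ) ∘ j) := by
  rw [empty_union, image_cons, insert_eq]
  rfl

lemma head_apply {p : ℕ} (s : C Z e' ∅ (p + 1)) (j : Fin p → Fin r) :
    head Z e' s j = Z.tr _ _ (s (Fin.cons 0 (Fin.succ ∘ j))) := rfl

lemma cons_zero_succAbove {p : ℕ} (x : Fin (r + 1)) (j : Fin p → Fin (r + 1)) :
    (Fin.cons x j : Fin (p + 1) → Fin (r + 1)) ∘ (0 : Fin (p + 1)).succAbove = j := by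
  funext a; simp

lemma cons_succ_succAbove {p : ℕ} (x : Fin (r + 1)) (j : Fin (p + 1) → Fin (r + 1)) (k : Fin (p + 1)) :
    (Fin.cons x j : Fin (p + 2) → Fin (r + 1)) ∘ k.succ.succAbove = Fin.cons x (j ∘ k.succAbove) := by
  funext a
  induction a using Fin.cases with
  | zero => simp
  | succ a => simp [Fin.succ_succAbove_succ]

lemma tr_congr {p : ℕ} {T U : Finset ι} (s : C Z e' T p) {a b : Fin p → Fin (r + 1)} (h : a = b) :
    Z.tr _ U (s a) = Z.tr _ U (s b) := by subst h; rfl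

lemma head_G {p : ℕ} (b : C Z (e' ∘ Fin.succ) {e' 0} p) : head Z e' (G Z e' b) = b := by
  funext j
  rw [head_apply, G, LinearMap.comp_apply, D_apply, Fin.sum_univ_succ, Finset.sum_eq_zero, add_zero,
    tr_congr Z e' (extZ Z e' {e' 0} b) (cons_zero_succAbove 0 (Fin.succ ∘ j))]
  · rw [extZ_succ]
    simp only [δ, Fin.val_zero, pow_zero, one_mul, Fin.cons_zero, if_pos, one_smul]
    rw [Z.tr_tr (by rw [head_subset]; rfl) (by rw [head_subset])]; exact Z.tr_self _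
  · intro k _
    simp [δ, Fin.succ_ne_zero]

lemma head_extZ {p : ℕ} (a : C Z (e' ∘ Fin.succ) ∅ (p + 1)) : head Z e' (extZ Z e' ∅ a) = 0 := by
  funext j
  rw [head_apply, extZ_of_zero Z e' ∅ a _ ⟨0, by simp⟩, map_zero]
  rfl

lemma head_d {p : ℕ} (s : C Z e' ∅ (p + 1)) :
    head Z e' (d Z ∅ s) = loc Z ∅ {e' 0} (restr Z e' ∅ s) - d Z {e' 0} (head Z e' s) := by
  funext j
  rw [head_apply, Pi.sub_apply, d, D_apply, Fin.sum_univ_succ, map_add, map_sum, sub_eq_add_neg,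
    loc_apply, restr_apply, d, D_apply, ← Finset.sum_neg_distrib]
  congr 1
  · simp only [Fin.val_zero, pow_zero, one_mul, one_smul]
    rw [tr_congr Z e' s (cons_zero_succAbove 0 (Fin.succ ∘ j)), Z.tr_tr]
    · rfl
    · rw [empty_union, empty_union, image_cons]; exact subset_insert _ _
    · exact (head_subset e' j).subset
  · refine Finset.sum_congr rfl fun k _ => ?_
    rw [map_zsmul, head_apply, tr_congr Z e' s (cons_succ_succAbove 0 (Fin.succ ∘ j) k), succ_comp,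
      Fin.val_succ, pow_succ, mul_one, mul_one, mul_neg_one, neg_smul]
    congr 2
    have h1 : (∅ : Finset ι) ∪ univ.image (e' ∘ Fin.cons 0 (Fin.succ ∘ (j ∘ k.succAbove))) ⊆
        ∅ ∪ univ.image (e' ∘ Fin.cons 0 (Fin.succ ∘ j)) := by
      rw [empty_union, empty_union, image_cons, image_cons]
      exact insert_subset_insert _ (face_subset e' (Fin.succ ∘ j) k)
    have h2 : ({e' 0} : Finset ι) ∪ univ.image ((e' ∘ Fin.succ) ∘ j ∘ k.succAbove) ⊆
        {e' 0} ∪ univ.image ((e' ∘ Fin.succ) ∘ j) :=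
      union_subset_union_right (face_subset (e' ∘ Fin.succ) j k)
    rw [Z.tr_tr h1 (head_subset e' j).subset, Z.tr_tr (head_subset e' _).subset h2]

/-- A cocycle vanishing on the old tuples and on those starting with the new index is a boundary. -/
theorem isBd_of_restr_head {p : ℕ} (s : C Z e' ∅ (p + 1)) (hd : d Z ∅ s = 0)
    (hr : restr Z e' ∅ s = 0) (hh : head Z e' s = 0) : IsBd Z ∅ s := by
  classical
  have hfirst : ∀ j : Fin p → Fin r, s (Fin.cons 0 (Fin.succ ∘ j)) = 0 := fun j => by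
    have h := congrArg (Z.tr ({e' 0} ∪ univ.image ((e' ∘ Fin.succ) ∘ j))
      (∅ ∪ univ.image (e' ∘ Fin.cons 0 (Fin.succ ∘ j)))) (congrFun hh j)
    rw [head_apply, Z.tr_tr (head_subset e' j).subset (head_subset e' j).symm.subset, Z.tr_self,
      Pi.zero_apply, map_zero] at h
    exact h
  refine ⟨fun i => Z.tr _ _ (s (Fin.cons 0 i)), funext fun i => ?_⟩
  rw [d, D_apply]
  by_cases h : ∀ k, i k ≠ 0
  · obtain ⟨j, rfl⟩ := exists_succ i h
    rw [show s (Fin.succ ∘ j) = 0 from congrFun hr j]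
    refine Finset.sum_eq_zero fun k _ => ?_
    show _ • Z.tr _ _ (Z.tr _ _ (s (Fin.cons 0 (Fin.succ ∘ (j ∘ k.succAbove))))) = 0
    rw [hfirst, map_zero, map_zero, smul_zero]
  push Not at h
  obtain ⟨l, hl⟩ := h
  have ha : e' 0 ∈ univ.image (e' ∘ i) := mem_image.2 ⟨l, mem_univ _, by simp [hl]⟩
  have hcons : (∅ : Finset ι) ∪ univ.image (e' ∘ Fin.cons 0 i) ⊆ ∅ ∪ univ.image (e' ∘ i) := by
    rw [empty_union, empty_union, image_cons, insert_eq_of_mem ha]
  have h1 := congrArg (Z.tr _ (∅ ∪ univ.image (e' ∘ i))) (congrFun hd (Fin.cons 0 i))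
  rw [Pi.zero_apply, map_zero, d, D_apply, map_sum, Fin.sum_univ_succ,
    tr_congr Z e' s (cons_zero_succAbove 0 i), map_zsmul,
    Z.tr_tr (by rw [empty_union, empty_union, image_cons]; exact subset_insert _ _) hcons,
    Z.tr_self] at h1
  simp only [Fin.val_zero, pow_zero, mul_one, one_smul, add_eq_zero_iff_eq_neg,
    ← Finset.sum_neg_distrib] at h1
  rw [h1]
  refine Finset.sum_congr rfl fun k _ => ?_
  rw [map_zsmul, tr_congr Z e' s (cons_succ_succAbove 0 i k), Fin.val_succ, pow_succ, mul_neg_one,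
    neg_smul, neg_neg, mul_one]
  congr 1
  have hsub : (∅ : Finset ι) ∪ univ.image (e' ∘ Fin.cons 0 (i ∘ k.succAbove)) ⊆
      ∅ ∪ univ.image (e' ∘ Fin.cons 0 i) := by
    rw [empty_union, empty_union, image_cons, image_cons]
    exact insert_subset_insert _ (face_subset e' i k)
  show Z.tr _ _ (Z.tr _ _ (s (Fin.cons 0 (i ∘ k.succAbove)))) = _
  by_cases hf : ∀ a, (i ∘ k.succAbove) a ≠ 0
  · obtain ⟨j, hj⟩ := exists_succ _ hf
    have h0 : s (Fin.cons 0 (i ∘ k.succAbove)) = 0 := by rw [hj]; exact hfirst j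
    rw [h0]
    simp only [map_zero]
  · push Not at hf
    obtain ⟨a, ha'⟩ := hf
    have hs' : (∅ : Finset ι) ∪ univ.image (e' ∘ Fin.cons 0 (i ∘ k.succAbove)) ⊆
        ∅ ∪ univ.image (e' ∘ i ∘ k.succAbove) := by
      rw [empty_union, empty_union, image_cons, insert_eq_of_mem]
      exact mem_image.2 ⟨a, mem_univ _, by simpa using congrArg e' ha'⟩
    rw [Z.tr_tr hs' (union_subset_union_right (face_subset e' i k)), Z.tr_tr hsub hcons]

/-- Inverse of multiplication by a power of the new element. -/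
def pInv (n : ℕ) {p : ℕ} : C Z (e' ∘ Fin.succ) {e' 0} p →ₗ[A] C Z (e' ∘ Fin.succ) {e' 0} p :=
  LinearMap.pi fun i =>
    ((Z.isUnit_mem (S := {e' 0} ∪ univ.image ((e' ∘ Fin.succ) ∘ i))
      (mem_union_left _ (mem_singleton_self (e' 0))) n).unit⁻¹ :
      (Module.End A (Z.N ({e' 0} ∪ univ.image ((e' ∘ Fin.succ) ∘ i))))ˣ).val.comp (LinearMap.proj i)

lemma pow_smul_pInv (n : ℕ) {p : ℕ} (s : C Z (e' ∘ Fin.succ) {e' 0} p) :
    f (e' 0) ^ n • pInv Z e' n s = s := by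
  funext i
  have hu := Z.isUnit_mem (S := {e' 0} ∪ univ.image ((e' ∘ Fin.succ) ∘ i))
    (mem_union_left _ (mem_singleton_self (e' 0))) n
  exact (LinearMap.congr_fun hu.mul_val_inv (s i) :)

lemma pow_smul_inj (n : ℕ) {p : ℕ} {s t : C Z (e' ∘ Fin.succ) {e' 0} p}
    (h : f (e' 0) ^ n • s = f (e' 0) ^ n • t) : s = t := by
  funext i
  exact ((Module.End.isUnit_iff _).1
    (Z.isUnit_mem (mem_union_left _ (mem_singleton_self (e' 0))) n)).1 (congrFun h i)

lemma exists_pow_smul_eq_loc {p : ℕ} (y : C Z (e' ∘ Fin.succ) {e' 0} p) :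
    ∃ (k : ℕ) (x : C Z (e' ∘ Fin.succ) ∅ p), f (e' 0) ^ k • y = loc Z ∅ {e' 0} x := by
  classical
  have h : ∀ i : Fin p → Fin r, ∀ᶠ k in Filter.atTop, ∃ x,
      f (e' 0) ^ k • y i = Z.tr (∅ ∪ univ.image ((e' ∘ Fin.succ) ∘ i)) _ x := fun i => by
    obtain ⟨k, x, hx⟩ := Z.exists_pow_smul_eq_tr (S := ∅ ∪ univ.image ((e' ∘ Fin.succ) ∘ i))
      (e' 0) (T := {e' 0} ∪ univ.image ((e' ∘ Fin.succ) ∘ i)) (by rw [empty_union, insert_eq]) (y i)
    refine Filter.eventually_atTop.2 ⟨k, fun m hm => ⟨f (e' 0) ^ (m - k) • x, ?_⟩⟩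
    rw [map_smul, ← hx, smul_smul, ← pow_add, Nat.sub_add_cancel hm]
  obtain ⟨k, hk⟩ := (Filter.eventually_all.2 h).exists
  choose x hx using hk
  exact ⟨k, x, funext hx⟩

lemma exists_pow_smul_eq_zero_of_loc {p : ℕ} (x : C Z (e' ∘ Fin.succ) ∅ p)
    (hx : loc Z ∅ {e' 0} x = 0) : ∃ k : ℕ, f (e' 0) ^ k • x = 0 := by
  classical
  have h : ∀ i : Fin p → Fin r, ∀ᶠ k in Filter.atTop, f (e' 0) ^ k • x i = 0 := fun i => by
    obtain ⟨k, hk⟩ := Z.exists_pow_smul_eq_zero (S := ∅ ∪ univ.image ((e' ∘ Fin.succ) ∘ i))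
      (e' 0) (T := {e' 0} ∪ univ.image ((e' ∘ Fin.succ) ∘ i)) (by rw [empty_union, insert_eq]) (x i)
      (congrFun hx i)
    refine Filter.eventually_atTop.2 ⟨k, fun m hm => ?_⟩
    rw [← Nat.sub_add_cancel hm, pow_add, mul_smul, hk, smul_zero]
  obtain ⟨k, hk⟩ := (Filter.eventually_all.2 h).exists
  exact ⟨k, funext hk⟩

end Groth.Agent.KoszulCech
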