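import Groth.Agent.KoszulCech.LocCoh

/-!
# A derivation of `A` acts on local cohomology of `A`
-/

set_option autoImplicit false

noncomputable section

universe u

open Finset CategoryTheory

namespace Groth.Agent.KoszulCech

variable {A : Type u} [CommRing A] (θ : Derivation ℤ A A) {N : Type u} [AddCommGroup N] [Module A N]

/-- Pairs, on which `a` acts by `(x, y) ↦ (a x, a y + θ a x)`. -/
def Tw (_θ : Derivation ℤ A A) (N : Type u) : Type u := N × N

instance : AddCommGroup (Tw θ N) := inferInstanceAs (AddCommGroup (N × N))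

/-- The pair. -/
def Tw.mk (x y : N) : Tw θ N := (x, y)

/-- First entry. -/
def Tw.fst (v : Tw θ N) : N := Prod.fst v

/-- Second entry. -/
def Tw.snd (v : Tw θ N) : N := Prod.snd v

@[ext] lemma Tw.ext {v w : Tw θ N} (h1 : Tw.fst θ v = Tw.fst θ w) (h2 : Tw.snd θ v = Tw.snd θ w) : v = w :=
  Prod.ext h1 h2

instance : Module A (Tw θ N) where
  smul a v := Tw.mk θ (a • Tw.fst θ v) (a • Tw.snd θ v + θ a • Tw.fst θ v)
  one_smul v := Tw.ext θ (one_smul A _)
    (show (1 : A) • _ + θ 1 • _ = _ by rw [one_smul, Derivation.map_one_eq_zero, zero_smul, add_zero])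
  mul_smul a b v := Tw.ext θ (mul_smul a b _)
    (show (a * b) • _ + θ (a * b) • _ = a • (b • _ + θ b • _) + θ a • (b • _) by
      rw [Derivation.leibniz, smul_eq_mul, smul_eq_mul, add_smul, smul_add, mul_smul, mul_smul, mul_smul,
        smul_comm b (θ a)]
      abel)
  smul_zero a := Tw.ext θ (smul_zero a) (show a • (0 : N) + θ a • (0 : N) = 0 by simp)
  smul_add a v w := Tw.ext θ (smul_add a _ _)
    (show a • (Tw.snd θ v + Tw.snd θ w) + θ a • (Tw.fst θ v + Tw.fst θ w) = (a • Tw.snd θ v + θ a • Tw.fst θ v) + (a • Tw.snd θ w + θ a • Tw.fst θ w) by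
      rw [smul_add, smul_add]; abel)
  add_smul a b v := Tw.ext θ (add_smul a b _)
    (show (a + b) • _ + θ (a + b) • _ = (a • _ + θ a • _) + (b • _ + θ b • _) by
      rw [map_add, add_smul, add_smul]; abel)
  zero_smul v := Tw.ext θ (zero_smul A _)
    (show (0 : A) • _ + θ 0 • _ = (0 : N) by simp)

lemma Tw.isUnit {a : A} (ha : IsUnit (algebraMap A (Module.End A N) a)) :
    IsUnit (algebraMap A (Module.End A (Tw θ N)) a) := by
  rw [Module.End.isUnit_iff] at ha ⊢
  constructor
  · intro v w h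
    have h1 : a • Tw.fst θ v = a • Tw.fst θ w := congrArg (Tw.fst θ) h
    have h2 : a • Tw.snd θ v + θ a • Tw.fst θ v = a • Tw.snd θ w + θ a • Tw.fst θ w :=
      congrArg (Tw.snd θ) h
    have e1 : Tw.fst θ v = Tw.fst θ w := ha.1 h1
    rw [e1, add_left_inj] at h2
    exact Tw.ext θ e1 (ha.1 h2)
  · intro w
    obtain ⟨x, hx⟩ := ha.2 (Tw.fst θ w)
    obtain ⟨y, hy⟩ := ha.2 (Tw.snd θ w - θ a • x)
    exact ⟨Tw.mk θ x y, Tw.ext θ hx (show a • y + θ a • x = _ from eq_sub_iff_add_eq.1 hy)⟩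

variable {r : ℕ} (f : Fin r → A)

/-- The localisations of `A`. -/
abbrev NS (S : Finset (Fin r)) : Type u := (locSys f A).N S

/-- `m ↦ (m, θ m)`. -/
def etaTw (S : Finset (Fin r)) : A →ₗ[A] Tw θ (NS f S) where
  toFun m := Tw.mk θ ((locSys f A).η S m) ((locSys f A).η S (θ m))
  map_add' m m' := Tw.ext θ (map_add _ _ _)
    ((congrArg _ (map_add θ m m')).trans (map_add _ _ _))
  map_smul' a m := Tw.ext θ (map_smul _ _ _) (show (locSys f A).η S (θ (a • m)) = a • (locSys f A).η S (θ m) + θ a • (locSys f A).η S m by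
    rw [smul_eq_mul, Derivation.leibniz, map_add, map_smul, ← map_smul ((locSys f A).η S) (θ a) m]
    congr 2
    simp [mul_comm])

/-- The extension to the localisations. -/
def extTw (S : Finset (Fin r)) : NS f S →ₗ[A] Tw θ (NS f S) :=
  haveI := (locSys f A).loc S
  IsLocalizedModule.lift (Submonoid.powers (∏ j ∈ S, f j)) ((locSys f A).η S) (etaTw θ f S)
    fun x => Tw.isUnit θ ((locSys f A).isUnit_of_dvd subset_rfl x)

lemma extTw_η (S : Finset (Fin r)) (m : A) : extTw θ f S ((locSys f A).η S m) = etaTw θ f S m :=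
  haveI := (locSys f A).loc S
  IsLocalizedModule.lift_apply _ _ _ _ m

lemma fst_extTw (S : Finset (Fin r)) (x : NS f S) : Tw.fst θ (extTw θ f S x) = x := by
  haveI := (locSys f A).loc S
  let L : NS f S →ₗ[A] NS f S :=
    { toFun := fun x => Tw.fst θ (extTw θ f S x)
      map_add' := fun a b => congrArg (Tw.fst θ) (map_add _ a b)
      map_smul' := fun a b => congrArg (Tw.fst θ) (map_smul _ a b) }
  have : L = LinearMap.id := IsLocalizedModule.ext (Submonoid.powers (∏ j ∈ S, f j))
    ((locSys f A).η S) ((locSys f A).isUnit_of_dvd subset_rfl)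
    (LinearMap.ext fun m => congrArg (Tw.fst θ) (extTw_η θ f S m))
  exact LinearMap.congr_fun this x

/-- The derivation on the localisations. -/
def DN (S : Finset (Fin r)) : NS f S →+ NS f S where
  toFun x := Tw.snd θ (extTw θ f S x)
  map_zero' := congrArg (Tw.snd θ) (map_zero _)
  map_add' a b := congrArg (Tw.snd θ) (map_add _ a b)

lemma DN_smul (S : Finset (Fin r)) (a : A) (x : NS f S) : DN θ f S (a • x) = θ a • x + a • DN θ f S x := by
  refine (congrArg (Tw.snd θ) (map_smul (extTw θ f S) a x)).trans ?_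
  show a • DN θ f S x + θ a • Tw.fst θ (extTw θ f S x) = _
  rw [fst_extTw, add_comm]

lemma DN_η (S : Finset (Fin r)) (m : A) : DN θ f S ((locSys f A).η S m) = (locSys f A).η S (θ m) :=
  congrArg (Tw.snd θ) (extTw_η θ f S m)

lemma DN_tr (S T : Finset (Fin r)) (x : NS f S) :
    DN θ f T ((locSys f A).tr S T x) = (locSys f A).tr S T (DN θ f S x) := by
  by_cases h : S ⊆ T
  · haveI := (locSys f A).loc S
    obtain ⟨⟨m, s⟩, hs⟩ := IsLocalizedModule.surj (Submonoid.powers (∏ j ∈ S, f j)) ((locSys f A).η S) x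
    have hs' : (s : A) • x = (locSys f A).η S m := hs
    have e1 : DN θ f T ((locSys f A).tr S T ((s : A) • x)) = (locSys f A).tr S T (DN θ f S ((s : A) • x)) := by
      rw [hs', Sys.tr_η _ h, DN_η, DN_η, Sys.tr_η _ h]
    rw [map_smul, DN_smul, DN_smul, map_add, map_smul, map_smul, add_right_inj] at e1
    exact ((Module.End.isUnit_iff _).1 ((locSys f A).isUnit_of_dvd h s)).1 e1
  · rw [Sys.tr_zero _ h]
    simp

variable {κ : Type} (e : κ → Fin r) (T : Finset (Fin r))

/-- The derivation on cochains. -/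
def DC (p : ℕ) : C (locSys f A) e T p →+ C (locSys f A) e T p where
  toFun s i := DN θ f _ (s i)
  map_zero' := funext fun _ => map_zero _
  map_add' _ _ := funext fun _ => map_add _ _ _

lemma DC_smul {p : ℕ} (a : A) (s : C (locSys f A) e T p) :
    DC θ f e T p (a • s) = θ a • s + a • DC θ f e T p s :=
  funext fun _ => DN_smul θ f _ a _

lemma DC_d {p : ℕ} (s : C (locSys f A) e T p) :
    DC θ f e T (p + 1) (d (locSys f A) T s) = d (locSys f A) T (DC θ f e T p s) := by
  funext i
  show DN θ f _ (D (locSys f A) e (fun _ => 1) T T s i) = D (locSys f A) e (fun _ => 1) T T (DC θ f e T p s) i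
  rw [D_apply, D_apply, map_sum]
  refine Finset.sum_congr rfl fun k _ => ?_
  rw [map_zsmul, DN_tr]
  rfl

/-- The derivation on cocycles. -/
def DZ (p : ℕ) : Zc (locSys f A) e p →+ Zc (locSys f A) e p where
  toFun s := ⟨DC θ f e ∅ p s.1, by
    show d (locSys f A) ∅ _ = 0
    rw [← DC_d, show d (locSys f A) ∅ s.1 = 0 from s.2, map_zero]⟩
  map_zero' := Subtype.ext (map_zero _)
  map_add' _ _ := Subtype.ext (map_add _ _ _)

lemma DZ_mem {p : ℕ} (s : Zc (locSys f A) e p) (hs : s ∈ Bc (locSys f A) e p) :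
    DZ θ f e p s ∈ Bc (locSys f A) e p := by
  cases p with
  | zero =>
    have h0 : s.1 = 0 := hs
    exact (congrArg (DC θ f e ∅ 0) h0).trans (map_zero _)
  | succ p =>
    obtain ⟨w, hw⟩ := hs
    exact ⟨DC θ f e ∅ p w, (DC_d θ f e ∅ w).symm.trans (congrArg (DC θ f e ∅ (p + 1)) hw)⟩

theorem exists_derivation_Hc (p : ℕ) : ∃ Dh : Hc (locSys f A) e p →+ Hc (locSys f A) e p,
    ∀ (a : A) (x : Hc (locSys f A) e p), Dh (a • x) = θ a • x + a • Dh x := by
  refine ⟨QuotientAddGroup.map _ _ (DZ θ f e p) fun s hs => DZ_mem θ f e s hs, fun a x => ?_⟩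
  obtain ⟨s, rfl⟩ := Submodule.Quotient.mk_surjective _ x
  exact congrArg Submodule.Quotient.mk (Subtype.ext (DC_smul θ f e ∅ a s.1) :
    DZ θ f e p (a • s) = θ a • s + a • DZ θ f e p s)

theorem exists_derivation_localCohomology [IsNoetherianRing A] (I : Ideal A) (i : ℕ) :
    ∃ Dh : (localCohomology I i).obj (ModuleCat.of A A) →+ (localCohomology I i).obj (ModuleCat.of A A),
      ∀ (a : A) (ξ : (localCohomology I i).obj (ModuleCat.of A A)), Dh (a • ξ) = θ a • ξ + a • Dh ξ := by
  obtain ⟨n, g, hg⟩ := (Submodule.fg_iff_exists_fin_generating_family.1 (IsNoetherian.noetherian I) :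
    ∃ (n : ℕ) (g : Fin n → A), Submodule.span A (Set.range g) = I)
  obtain ⟨a⟩ := nonempty_localCohomology_iso g i
  obtain ⟨b⟩ := nonempty_homology_equiv g (ModuleCat.of A A) i
  obtain ⟨Dh, hDh⟩ := exists_derivation_Hc θ g (allIdx (r := n)) i
  rw [show I = Ideal.span (Set.range g) from hg.symm]
  let E := (a.app (ModuleCat.of A A)).toLinearEquiv.trans b
  refine ⟨(E.symm.toAddMonoidHom.comp Dh).comp E.toAddMonoidHom, fun c ξ => ?_⟩
  show E.symm (Dh (E (c • ξ))) = θ c • ξ + c • E.symm (Dh (E ξ))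
  rw [map_smul, hDh, map_add, map_smul, map_smul, E.symm_apply_apply]

end Groth.Agent.KoszulCech
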