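import Groth.Prelude.Def_DerCA
import Groth.Agent.LocCohBasic.Cd
import Groth.Agent.LocCohBasic.Derived
import Mathlib.Algebra.Homology.HomologicalComplexAbelian
import Mathlib.Algebra.Homology.HomologySequence
import Mathlib.Algebra.Homology.ShortComplex.ModuleCat
import Mathlib.Algebra.Module.LocalizedModule.Exact
import Mathlib.Algebra.Category.ModuleCat.Injective

/-!
# The extended alternating Cech complex of a list computes local cohomology

The iterated mapping cocone is handled through the elements of the mapping cone.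
-/

set_option autoImplicit false

noncomputable section

universe u

open CategoryTheory Limits CochainComplex

namespace Groth.Agent.KoszulCech.ExtCech

variable {R : Type u} [CommRing R]

/-! ### Mapping cones, elementwise -/

section Cone

variable {K L : DRing.Cx R} (φ : K ⟶ L)

/-- First component. -/
def pf (i j : ℤ) (h : i + 1 = j) : (mappingCone φ).X i →ₗ[R] K.X j :=
  ((mappingCone.fst φ).1.v i j h).hom

/-- Second component. -/
def ps (i : ℤ) : (mappingCone φ).X i →ₗ[R] L.X i :=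
  ((mappingCone.snd φ).v i i (add_zero i)).hom

/-- The element with given components. -/
def mk {i j : ℤ} (h : i + 1 = j) (a : K.X j) (b : L.X i) : (mappingCone φ).X i :=
  (mappingCone.inl φ).v j i (by omega) a + (mappingCone.inr φ).f i b

lemma pf_mk {i j : ℤ} (h : i + 1 = j) (a : K.X j) (b : L.X i) : pf φ i j h (mk φ h a b) = a := by
  rw [pf, mk, map_add, ← ModuleCat.comp_apply, ← ModuleCat.comp_apply,
    mappingCone.inl_v_fst_v, mappingCone.inr_f_fst_v]
  simp

lemma ps_mk {i j : ℤ} (h : i + 1 = j) (a : K.X j) (b : L.X i) : ps φ i (mk φ h a b) = b := by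
  rw [ps, mk, map_add, ← ModuleCat.comp_apply, ← ModuleCat.comp_apply,
    mappingCone.inl_v_snd_v, mappingCone.inr_f_snd_v]
  simp

lemma ext {i j : ℤ} (h : i + 1 = j) {x y : (mappingCone φ).X i}
    (h1 : pf φ i j h x = pf φ i j h y) (h2 : ps φ i x = ps φ i y) : x = y := by
  have e : ∀ z : (mappingCone φ).X i,
      (mappingCone.inl φ).v j i (by omega) (pf φ i j h z) + (mappingCone.inr φ).f i (ps φ i z) = z :=
    fun z => congrArg (fun t => t.hom z) (mappingCone.id_X φ i j h)
  rw [← e x, ← e y, h1, h2]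

lemma pf_d (i j k : ℤ) (hij : i + 1 = j) (hjk : j + 1 = k) (x : (mappingCone φ).X i) :
    pf φ j k hjk ((mappingCone φ).d i j x) = -(K.d j k (pf φ i j hij x)) := by
  rw [pf, ← ModuleCat.comp_apply, mappingCone.d_fst_v φ i j k hij hjk]
  simp [pf]

lemma ps_d (i j : ℤ) (hij : i + 1 = j) (x : (mappingCone φ).X i) :
    ps φ j ((mappingCone φ).d i j x) = φ.f j (pf φ i j hij x) + L.d i j (ps φ i x) := by
  rw [ps, ← ModuleCat.comp_apply, mappingCone.d_snd_v φ i j hij]
  rfl

end Cone

/-! ### Exactness at a degree -/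

/-- Every cycle of degree `q` is a boundary. -/
def Ex (K : DRing.Cx R) (q : ℤ) : Prop :=
  ∀ p r : ℤ, p + 1 = q → q + 1 = r → ∀ x : K.X q, K.d q r x = 0 → ∃ w : K.X p, K.d p q w = x

lemma exactAt_of_ex {K : DRing.Cx R} {q : ℤ} (h : Ex K q) : K.ExactAt q := by
  rw [HomologicalComplex.exactAt_iff' K (q - 1) q (q + 1) (by simp) (by simp), ShortComplex.moduleCat_exact_iff]
  exact fun x hx => h (q - 1) (q + 1) (by omega) rfl x hx

lemma cocone_d {K L : DRing.Cx R} (φ : K ⟶ L) (i j : ℤ) (x : (mappingCone φ).X (i + -1)) :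
    (mappingCocone φ).d i j x = -((mappingCone φ).d (i + -1) (j + -1) x) := by
  have h : (mappingCocone φ).d i j = (-1 : ℤ).negOnePow • (mappingCone φ).d (i + -1) (j + -1) :=
    shiftFunctor_obj_d' _ _ _ _
  rw [h, Int.negOnePow_neg, Int.negOnePow_one]
  simp
  rfl

lemma ex_cocone {K L : DRing.Cx R} (φ : K ⟶ L) {q : ℤ} (hK : Ex K q)
    (hL : ∀ p s : ℤ, p + 1 = q → q + -1 = p → s + 1 = p → ∀ c : L.X p, L.d p q c = 0 →
      ∃ (e : K.X p) (w : L.X s), K.d p q e = 0 ∧ c = φ.f p e + L.d s p w) :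
    Ex (mappingCocone φ) q := by
  intro p r hp hr x hx
  have hx' : (mappingCone φ).d (q + -1) (r + -1) x = 0 := by
    rw [cocone_d] at hx; exact neg_eq_zero.1 hx
  obtain ⟨s, hs⟩ : ∃ s, p + -1 = s := ⟨_, rfl⟩
  have h1 : q + -1 + 1 = q := by omega
  have hrq : r + -1 = q := by omega
  have hqp : q + -1 = p := by omega
  rw [hrq] at hx'
  have ha : K.d q r (pf φ (q + -1) q h1 x) = 0 := by
    have := congrArg (pf φ q r hr) hx'
    rw [pf_d φ (q + -1) q r h1 hr, map_zero, neg_eq_zero] at this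
    exact this
  obtain ⟨a', ha'⟩ := hK p r hp hr _ ha
  have hb := congrArg (ps φ q) hx'
  rw [ps_d φ (q + -1) q h1, map_zero] at hb
  subst hqp
  have hc : L.d (q + -1) q (ps φ (q + -1) x + φ.f (q + -1) a') = 0 := by
    rw [map_add, ← ModuleCat.comp_apply (φ.f _), φ.comm, ModuleCat.comp_apply, ha', add_comm]
    exact hb
  obtain ⟨e, w, he, hew⟩ := hL (q + -1) (q + -1 + -1) h1 rfl (by omega) _ hc
  subst hs
  refine ⟨-(mk φ (show q + -1 + -1 + 1 = q + -1 by omega) (e - a') w : (mappingCone φ).X (q + -1 + -1)), ?_⟩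
  rw [cocone_d, map_neg, neg_neg]
  refine ext φ h1 ?_ ?_
  · rw [pf_d φ _ _ _ (by omega) h1, pf_mk, map_sub, he, zero_sub, neg_neg, ha']
  · rw [ps_d φ _ _ (by omega), pf_mk, ps_mk, map_sub, sub_add_eq_add_sub, ← hew, add_sub_cancel_right]

/-! ### Localisation -/

section Loc

variable (f : R)

/-- The localisation map in degree `i`. -/
def li (K : DRing.Cx R) (i : ℤ) : K.X i →ₗ[R] ((DerCA.locCx (Submonoid.powers f)).obj K).X i :=
  ((DerCA.locCxUnit (Submonoid.powers f) K).f i).hom

instance (K : DRing.Cx R) (i : ℤ) : IsLocalizedModule (Submonoid.powers f) (li f K i) :=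
  localizedModuleIsLocalizedModule (Submonoid.powers f)

lemma li_d (K : DRing.Cx R) (p q : ℤ) (y : K.X p) :
    ((DerCA.locCx (Submonoid.powers f)).obj K).d p q (li f K p y) = li f K q (K.d p q y) :=
  (congrArg (fun t => t.hom y) ((DerCA.locCxUnit (Submonoid.powers f) K).comm p q))

lemma pow_inj (K : DRing.Cx R) {i : ℤ} (k : ℕ) {a b : ((DerCA.locCx (Submonoid.powers f)).obj K).X i}
    (h : f ^ k • a = f ^ k • b) : a = b :=
  ((Module.End.isUnit_iff _).1 (IsLocalizedModule.map_units (li f K i)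
    (⟨f ^ k, k, rfl⟩ : Submonoid.powers f))).1 h

lemma pow_surj (K : DRing.Cx R) {i : ℤ} (k : ℕ) (a : ((DerCA.locCx (Submonoid.powers f)).obj K).X i) :
    ∃ b, f ^ k • b = a :=
  ((Module.End.isUnit_iff _).1 (IsLocalizedModule.map_units (li f K i)
    (⟨f ^ k, k, rfl⟩ : Submonoid.powers f))).2 a

lemma exists_li (K : DRing.Cx R) {i : ℤ} (a : ((DerCA.locCx (Submonoid.powers f)).obj K).X i) :
    ∃ (y : K.X i) (k : ℕ), f ^ k • a = li f K i y := by
  obtain ⟨⟨y, ⟨_, k, rfl⟩⟩, hy⟩ := IsLocalizedModule.surj (Submonoid.powers f) (li f K i) a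
  exact ⟨y, k, hy⟩

lemma li_eq_zero_iff (K : DRing.Cx R) {i : ℤ} (y : K.X i) : li f K i y = 0 ↔ ∃ k : ℕ, f ^ k • y = 0 := by
  rw [IsLocalizedModule.eq_zero_iff (Submonoid.powers f) (li f K i)]
  constructor
  · rintro ⟨⟨_, k, rfl⟩, h⟩; exact ⟨k, h⟩
  · rintro ⟨k, h⟩; exact ⟨(⟨f ^ k, k, rfl⟩ : Submonoid.powers f), h⟩

/-- Exactness survives localisation. -/
lemma ex_locCx {K : DRing.Cx R} {q : ℤ} (h : Ex K q) :
    Ex ((DerCA.locCx (Submonoid.powers f)).obj K) q := by
  intro p r hp hr x hx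
  obtain ⟨y, k, hy⟩ := exists_li f K x
  have h1 : li f K r (K.d q r y) = 0 := by rw [← li_d, ← hy, map_smul, hx, smul_zero]
  obtain ⟨l, hl⟩ := (li_eq_zero_iff f K _).1 h1
  obtain ⟨w, hw⟩ := h p r hp hr (f ^ l • y) (by rw [map_smul, hl])
  obtain ⟨v, hv⟩ := pow_surj f K (l + k) (li f K p w)
  refine ⟨v, pow_inj f K (l + k) ?_⟩
  rw [← map_smul, hv, li_d, hw, map_smul, ← hy, smul_smul, ← pow_add]

lemma locCxUnit_nat {K K' : DRing.Cx R} (a : K ⟶ K') :
    DerCA.locCxUnit (Submonoid.powers f) K ≫ (DerCA.locCx (Submonoid.powers f)).map a =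
      a ≫ DerCA.locCxUnit (Submonoid.powers f) K' :=
  HomologicalComplex.hom_ext _ _ fun i => ((DerCA.locUnit (Submonoid.powers f)).naturality (a.f i)).symm

/-- The map of cones induced by a map of complexes. -/
def coneMap {K K' : DRing.Cx R} (a : K ⟶ K') :
    mappingCone (DerCA.locCxUnit (Submonoid.powers f) K) ⟶
      mappingCone (DerCA.locCxUnit (Submonoid.powers f) K') :=
  mappingCone.map _ _ a _ (locCxUnit_nat f a)

lemma pf_coneMap {K K' : DRing.Cx R} (a : K ⟶ K') (i j : ℤ) (h : i + 1 = j) (x) :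
    pf (DerCA.locCxUnit (Submonoid.powers f) K') i j h ((coneMap f a).f i x) =
      a.f j (pf (DerCA.locCxUnit (Submonoid.powers f) K) i j h x) := by
  rw [pf, pf, ← ModuleCat.comp_apply, ← ModuleCat.comp_apply]
  congr 2
  simp [mappingCone.ext_from_iff _ j i h, coneMap, mappingCone.map]

lemma ps_coneMap {K K' : DRing.Cx R} (a : K ⟶ K') (i : ℤ) (x) :
    ps (DerCA.locCxUnit (Submonoid.powers f) K') i ((coneMap f a).f i x) =
      ((DerCA.locCx (Submonoid.powers f)).map a).f i (ps (DerCA.locCxUnit (Submonoid.powers f) K) i x) := by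
  rw [ps, ps, ← ModuleCat.comp_apply, ← ModuleCat.comp_apply]
  congr 2
  simp [mappingCone.ext_from_iff _ (i + 1) i rfl, coneMap, mappingCone.map]

end Loc

/-- The induced map on extended Cech complexes. -/
def extMap {M N : ModuleCat.{u} R} (g : M ⟶ N) : ∀ fs : List R, DerCA.extCech M fs ⟶ DerCA.extCech N fs
  | [] => (HomologicalComplex.single (ModuleCat.{u} R) (ComplexShape.up ℤ) 0).map g
  | f :: fs => (coneMap f (extMap g fs))⟦(-1 : ℤ)⟧'

lemma extMap_id (M : ModuleCat.{u} R) : ∀ fs : List R, extMap (𝟙 M) fs = 𝟙 _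
  | [] => CategoryTheory.Functor.map_id _ _
  | f :: fs => by
    show (coneMap f (extMap (𝟙 M) fs))⟦(-1 : ℤ)⟧' = 𝟙 _
    have e : coneMap f (extMap (𝟙 M) fs) = 𝟙 _ := by
      simp only [coneMap, extMap_id M fs, CategoryTheory.Functor.map_id]
      exact mappingCone.map_id _
    rw [e]
    exact CategoryTheory.Functor.map_id _ _

lemma extMap_comp {M N P : ModuleCat.{u} R} (g : M ⟶ N) (h : N ⟶ P) :
    ∀ fs : List R, extMap (g ≫ h) fs = extMap g fs ≫ extMap h fs
  | [] => CategoryTheory.Functor.map_comp _ _ _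
  | f :: fs => by
    show (coneMap f (extMap (g ≫ h) fs))⟦(-1 : ℤ)⟧' = _
    have e : coneMap f (extMap (g ≫ h) fs) = coneMap f (extMap g fs) ≫ coneMap f (extMap h fs) := by
      simp only [coneMap, extMap_comp g h fs, CategoryTheory.Functor.map_comp]
      exact mappingCone.map_comp _ _ _ _ _ _ _ _ _
    rw [e]
    exact CategoryTheory.Functor.map_comp _ _ _

lemma extMap_add {M N : ModuleCat.{u} R} (g h : M ⟶ N) :
    ∀ fs : List R, extMap (g + h) fs = extMap g fs + extMap h fs
  | [] => Functor.map_add _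
  | f :: fs => by
    show (coneMap f (extMap (g + h) fs))⟦(-1 : ℤ)⟧' = _
    have e : coneMap f (extMap (g + h) fs) = coneMap f (extMap g fs) + coneMap f (extMap h fs) := by
      refine HomologicalComplex.hom_ext _ _ fun i => ModuleCat.hom_ext (LinearMap.ext fun x => ?_)
      refine ext _ (rfl : i + 1 = i + 1) ?_ ?_
      · rw [pf_coneMap, extMap_add g h fs]
        simp [pf_coneMap]
      · rw [ps_coneMap, extMap_add g h fs, Functor.map_add]
        simp [ps_coneMap]
    rw [e]
    exact Functor.map_add _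

/-- Extended Cech complexes, as a functor in the module. -/
def extF (fs : List R) : ModuleCat.{u} R ⥤ DRing.Cx R where
  obj M := DerCA.extCech M fs
  map g := extMap g fs
  map_id M := extMap_id M fs
  map_comp g h := extMap_comp g h fs

instance (fs : List R) : (extF fs).Additive where
  map_add := extMap_add _ _ fs

/-- Degreewise exactness. -/
lemma degreewise {S : ShortComplex (ModuleCat.{u} R)} (hS : S.ShortExact) : ∀ (fs : List R) (q : ℤ),
    Function.Injective ((extMap S.f fs).f q).hom ∧ Function.Surjective ((extMap S.g fs).f q).hom ∧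
      Function.Exact ((extMap S.f fs).f q).hom ((extMap S.g fs).f q).hom
  | [], q => by
    have hs : (S.map (HomologicalComplex.single (ModuleCat.{u} R) (ComplexShape.up ℤ) 0 ⋙
        HomologicalComplex.eval _ _ q)).ShortExact := by
      rcases eq_or_ne q 0 with rfl | hq
      · exact ShortComplex.shortExact_of_iso (S.mapNatIso
          (NatIso.ofComponents (fun M => (HomologicalComplex.singleObjXSelf (ComplexShape.up ℤ) 0 M).symm)
            fun {M N} g => by
              simp [HomologicalComplex.single_map_f_self]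
              try exact (Iso.inv_hom_id_assoc _ _).symm :
            𝟭 _ ≅ HomologicalComplex.single (ModuleCat.{u} R) (ComplexShape.up ℤ) 0 ⋙
              HomologicalComplex.eval _ _ (0 : ℤ))) hS
      · have hz : ∀ M : ModuleCat.{u} R, Subsingleton
            (((HomologicalComplex.single (ModuleCat.{u} R) (ComplexShape.up ℤ) 0).obj M).X q) := fun M =>
          ModuleCat.subsingleton_of_isZero (HomologicalComplex.isZero_single_obj_X _ _ _ _ hq)
        exact ModuleCat.shortComplex_shortExact _ (fun y => ⟨fun _ => ⟨0, (hz S.X₂).elim _ _⟩, fun _ => (hz S.X₃).elim _ _⟩)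
          (fun a b _ => (hz S.X₁).elim _ _) (fun y => ⟨0, (hz S.X₃).elim _ _⟩)
    exact ⟨hs.moduleCat_injective_f, hs.moduleCat_surjective_g,
      (ShortComplex.ShortExact.moduleCat_exact_iff_function_exact _).1 hs.exact⟩
  | f :: fs, q => by
    obtain ⟨i1, s1, x1⟩ := degreewise hS fs (q + -1 + 1)
    obtain ⟨i0, s0, x0⟩ := degreewise hS fs (q + -1)
    let mk' := fun K : ModuleCat.{u} R => LocalizedModule.mkLinearMap (Submonoid.powers f) K
    have i0' := IsLocalizedModule.map_injective (Submonoid.powers f) (mk' _) (mk' _) _ i0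
    have s0' := IsLocalizedModule.map_surjective (Submonoid.powers f) (mk' _) (mk' _) _ s0
    have x0' := IsLocalizedModule.map_exact (Submonoid.powers f) (mk' _) (mk' _) (mk' _) _ _ x0
    let φ := fun M : ModuleCat.{u} R => DerCA.locCxUnit (Submonoid.powers f) (DerCA.extCech M fs)
    show Function.Injective ((coneMap f (extMap S.f fs)).f (q + -1)).hom ∧
      Function.Surjective ((coneMap f (extMap S.g fs)).f (q + -1)).hom ∧
      Function.Exact ((coneMap f (extMap S.f fs)).f (q + -1)).hom ((coneMap f (extMap S.g fs)).f (q + -1)).hom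
    refine ⟨fun a b hab => ext (φ S.X₁) rfl (i1 ?_) (i0' ?_), fun y => ?_, fun y => ⟨fun hy => ?_, ?_⟩⟩
    · rw [← pf_coneMap, ← pf_coneMap, hab]
    · exact (ps_coneMap f _ _ a).symm.trans ((congrArg _ hab).trans (ps_coneMap f _ _ b))
    · obtain ⟨a, ha⟩ := s1 (pf (φ S.X₃) _ _ rfl y)
      obtain ⟨b, hb⟩ := s0' (ps (φ S.X₃) _ y)
      refine ⟨mk (φ S.X₂) rfl a b, ext (φ S.X₃) rfl ?_ ?_⟩
      · rw [pf_coneMap, pf_mk, ha]
      · rw [ps_coneMap, ps_mk]; exact hb
    · obtain ⟨a, ha⟩ := (x1 (pf (φ S.X₂) _ _ rfl y)).1 ((pf_coneMap f _ _ _ rfl y).symm.trans ((congrArg _ hy).trans (map_zero _)))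
      obtain ⟨b, hb⟩ := (x0' (ps (φ S.X₂) _ y)).1 ((ps_coneMap f _ _ y).symm.trans ((congrArg _ hy).trans (map_zero _)))
      refine ⟨mk (φ S.X₁) rfl a b, ext (φ S.X₂) rfl ?_ ?_⟩
      · rw [pf_coneMap, pf_mk, ha]
      · rw [ps_coneMap, ps_mk]; exact hb
    · rintro ⟨x, rfl⟩
      refine ext (φ S.X₃) rfl ?_ ?_
      · rw [pf_coneMap, pf_coneMap, map_zero]; exact x1.apply_apply_eq_zero _
      · rw [ps_coneMap, ps_coneMap, map_zero]; exact x0'.apply_apply_eq_zero _

lemma extF_shortExact {S : ShortComplex (ModuleCat.{u} R)} (hS : S.ShortExact) (fs : List R) :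
    (S.map (extF fs)).ShortExact :=
  HomologicalComplex.shortExact_of_degreewise_shortExact _ fun q =>
    ModuleCat.shortComplex_shortExact _ (degreewise hS fs q).2.2 (degreewise hS fs q).1 (degreewise hS fs q).2.1

/-! ### Degree zero, and acyclicity of injectives -/

variable (M : ModuleCat.{u} R)

/-- The augmentation in degree zero. -/
def aug : ∀ fs : List R, (DerCA.extCech M fs).X 0 →ₗ[R] M
  | [] => (HomologicalComplex.singleObjXSelf (ComplexShape.up ℤ) 0 M).hom.hom
  | f :: fs => (aug fs).comp (pf (DerCA.locCxUnit (Submonoid.powers f) (DerCA.extCech M fs)) (-1) 0 (by omega))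

lemma aug_d : ∀ (fs : List R) (p : ℤ), p + 1 = 0 → ∀ w, aug M fs ((DerCA.extCech M fs).d p 0 w) = 0
  | [], p, _, w => by
    have h0 : (DerCA.extCech M []).d p 0 = 0 :=
      HomologicalComplex.single_obj_d _ _ _ _ _
    rw [h0]
    exact map_zero (aug M [])
  | f :: fs, p, hp, w => by
    show aug M fs (pf (DerCA.locCxUnit (Submonoid.powers f) (DerCA.extCech M fs)) (-1) 0 (by omega)
      ((mappingCocone (DerCA.locCxUnit (Submonoid.powers f) (DerCA.extCech M fs))).d p 0 w)) = 0
    obtain rfl : p = -1 := by omega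
    show aug M fs (pf _ (-1) 0 _ ((mappingCocone (DerCA.locCxUnit (Submonoid.powers f) (DerCA.extCech M fs))).d (-1) 0 w)) = 0
    refine (congrArg (fun t => aug M fs (pf _ (-1) 0 (by omega) t)) (cocone_d _ (-1) 0 w)).trans ?_
    show aug M fs (pf _ (-1) 0 _ (-((mappingCone (DerCA.locCxUnit (Submonoid.powers f) (DerCA.extCech M fs))).d (-2) (-1) w))) = 0
    rw [map_neg, pf_d _ (-2) (-1) 0 (by omega), neg_neg]
    exact aug_d fs (-1) rfl _

lemma aug_extMap {N : ModuleCat.{u} R} (g : M ⟶ N) : ∀ (fs : List R) (x),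
    aug N fs ((extMap g fs).f 0 x) = g (aug M fs x)
  | [], x => by
    show (HomologicalComplex.singleObjXSelf (ComplexShape.up ℤ) 0 N).hom _ = _
    refine congrArg (fun t => t.hom x) (?_ :
      ((HomologicalComplex.single (ModuleCat.{u} R) (ComplexShape.up ℤ) 0).map g).f 0 ≫
        (HomologicalComplex.singleObjXSelf (ComplexShape.up ℤ) 0 N).hom =
          (HomologicalComplex.singleObjXSelf (ComplexShape.up ℤ) 0 M).hom ≫ g)
    simp [HomologicalComplex.single_map_f_self]
  | f :: fs, x => by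
    show aug N fs (pf _ (-1) 0 (by omega) ((coneMap f (extMap g fs)).f (-1) x)) = _
    rw [pf_coneMap]
    exact aug_extMap g fs _

lemma mem_torsionSub_cons (f : R) (fs : List R) (m : M) :
    m ∈ DRing.torsionSub (Ideal.span {x | x ∈ f :: fs}) M ↔
      m ∈ DRing.torsionSub (Ideal.span {x | x ∈ fs}) M ∧ ∃ k : ℕ, f ^ k • m = 0 := by
  have h : {x | x ∈ f :: fs} = insert f {x | x ∈ fs} := by ext x; simp
  rw [h, Ideal.span_insert, LocCohBasic.mem_torsionSub_sup, LocCohBasic.mem_torsionSub_span_singleton, and_comm]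

/-- Cycles of degree zero are the torsion elements, modulo boundaries. -/
structure H0Spec (fs : List R) : Prop where
  mem : ∀ z, (DerCA.extCech M fs).d 0 1 z = 0 → aug M fs z ∈ DRing.torsionSub (Ideal.span {x | x ∈ fs}) M
  inj : ∀ z, (DerCA.extCech M fs).d 0 1 z = 0 → aug M fs z = 0 →
    ∃ w, (DerCA.extCech M fs).d (-1) 0 w = z
  surj : ∀ m ∈ DRing.torsionSub (Ideal.span {x | x ∈ fs}) M, ∃ z,
    (DerCA.extCech M fs).d 0 1 z = 0 ∧ aug M fs z = m

/-- What is proved by induction on the list. -/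
structure Spec (fs : List R) : Prop where
  neg : ∀ q : ℤ, q < 0 → Ex (DerCA.extCech M fs) q
  h0 : H0Spec M fs
  pos : IsNoetherianRing R → Module.Injective R M → ∀ q : ℤ, 0 < q → Ex (DerCA.extCech M fs) q

theorem spec : ∀ fs : List R, Spec M fs
  | [] => by
    have hz : ∀ q : ℤ, q ≠ 0 → Subsingleton ((DerCA.extCech M []).X q) := fun q hq =>
      ModuleCat.subsingleton_of_isZero (HomologicalComplex.isZero_single_obj_X _ _ _ _ hq)
    refine ⟨fun q hq p r _ _ x _ => ⟨0, (hz q hq.ne).elim _ _⟩, ⟨fun z _ => ?_, fun z _ h0 => ⟨0, ?_⟩, fun m _ => ?_⟩,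
      fun _ _ q hq p r _ _ x _ => ⟨0, (hz q hq.ne').elim _ _⟩⟩
    · exact ⟨1, fun a ha => by
        simp only [List.not_mem_nil, Set.setOf_false, Ideal.span_empty, pow_one, Ideal.mem_bot] at ha
        rw [ha, zero_smul]⟩
    · rw [map_zero]
      exact (HomologicalComplex.singleObjXSelf (ComplexShape.up ℤ) 0 M).toLinearEquiv.injective
        ((map_zero _).trans h0.symm)
    · exact ⟨(HomologicalComplex.singleObjXSelf (ComplexShape.up ℤ) 0 M).inv m, (hz 1 one_ne_zero).elim _ _,
        (HomologicalComplex.singleObjXSelf (ComplexShape.up ℤ) 0 M).inv_hom_id_apply m⟩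
  | f :: fs => by
    obtain ⟨hneg, ⟨hmem, hinj, hsurj⟩, hpos⟩ := spec fs
    let K := DerCA.extCech M fs
    let φ := DerCA.locCxUnit (Submonoid.powers f) K
    let L := (DerCA.locCx (Submonoid.powers f)).obj K
    let ι := fun i : ℤ => li f K i
    have hLd : ∀ p q (y : K.X p), L.d p q (ι p y) = ι q (K.d p q y) := fun p q y => li_d f K p q y
    -- a cycle of `K` whose augmentation is killed by a power of `f` becomes a boundary
    have hkill : ∀ z : K.X 0, K.d 0 1 z = 0 → (∃ k : ℕ, f ^ k • aug M fs z = 0) →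
        ∃ v : L.X (-1), L.d (-1) 0 v = ι 0 z := by
      rintro z hz ⟨k, hk⟩
      obtain ⟨w, hw⟩ := hinj (f ^ k • z) (by rw [map_smul, hz, smul_zero]) (by rw [map_smul, hk])
      obtain ⟨v, hv⟩ := pow_surj f K k (ι (-1) w)
      refine ⟨v, pow_inj f K k ?_⟩
      rw [← map_smul, hv, hLd, hw, map_smul]
    refine ⟨fun q hq => ex_cocone φ (hneg q hq) fun p s hp _ hs c hc => ?_, ⟨fun z hz => ?_, fun z hz h0 => ?_, fun m hm => ?_⟩,
      fun hN hI q hq => ex_cocone φ (hpos hN hI q hq) fun p s hp _ hs c hc => ?_⟩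
    · obtain ⟨w, hw⟩ := ex_locCx f (hneg p (by omega)) s q hs hp c hc
      exact ⟨0, w, map_zero _, by rw [map_zero, zero_add, hw]⟩
    · have hz' : (mappingCone φ).d (-1) 0 z = 0 :=
        neg_eq_zero.1 ((cocone_d φ 0 1 z).symm.trans hz)
      have ha : K.d 0 1 (pf φ (-1) 0 (by omega) z) = 0 := by
        have := congrArg (pf φ 0 1 rfl) hz'
        rw [pf_d φ (-1) 0 1 (by omega), map_zero, neg_eq_zero] at this
        exact this
      show aug M fs (pf φ (-1) 0 (by omega) z) ∈ _
      rw [mem_torsionSub_cons]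
      refine ⟨hmem _ ha, ?_⟩
      have hb := congrArg (ps φ 0) hz'
      rw [ps_d φ (-1) 0 (by omega), map_zero] at hb
      obtain ⟨y, k, hy'⟩ := exists_li f K (ps φ (-1) z)
      have h2 : ι 0 (f ^ k • pf φ (-1) 0 (by omega) z + K.d (-1) 0 y) = 0 := by
        rw [map_add, map_smul, ← hLd, ← hy', map_smul (L.d _ _).hom, ← smul_add]
        exact (congrArg (f ^ k • ·) hb).trans (smul_zero _)
      obtain ⟨l, hl⟩ := (li_eq_zero_iff f K _).1 h2
      refine ⟨l + k, ?_⟩
      have h3 := congrArg (aug M fs) hl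
      rw [map_smul, map_add, map_smul, aug_d M fs (-1) (by omega), add_zero, map_zero, smul_smul, ← pow_add] at h3
      exact h3
    · have hz' : (mappingCone φ).d (-1) 0 z = 0 :=
        neg_eq_zero.1 ((cocone_d φ 0 1 z).symm.trans hz)
      have ha : K.d 0 1 (pf φ (-1) 0 (by omega) z) = 0 := by
        have := congrArg (pf φ 0 1 rfl) hz'
        rw [pf_d φ (-1) 0 1 (by omega), map_zero, neg_eq_zero] at this
        exact this
      obtain ⟨a', ha'⟩ := hinj _ ha h0
      have hb := congrArg (ps φ 0) hz'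
      rw [ps_d φ (-1) 0 (by omega), map_zero] at hb
      have hc : L.d (-1) 0 (ps φ (-1) z + φ.f (-1) a') = 0 := by
        rw [map_add, ← ModuleCat.comp_apply (φ.f _), φ.comm, ModuleCat.comp_apply, ha', add_comm]
        exact hb
      obtain ⟨w, hw⟩ := ex_locCx f (hneg (-1) (by omega)) (-2) 0 rfl rfl _ hc
      refine ⟨-(mk φ (show (-1 : ℤ) + -1 + 1 = -1 by omega) (-a') w : (mappingCone φ).X (-1 + -1)), ?_⟩
      show (mappingCocone φ).d (-1) 0 _ = _
      refine (cocone_d φ (-1) 0 _).trans ?_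
      show -((mappingCone φ).d (-1 + -1) (-1) (-(mk φ _ (-a') w))) = z
      rw [map_neg, neg_neg]
      refine ext φ (show (-1 : ℤ) + 1 = 0 by omega) ?_ ?_
      · rw [pf_d φ (-1 + -1) (-1) 0 (by omega), pf_mk, map_neg, neg_neg]; exact ha'
      · rw [ps_d φ (-1 + -1) (-1) (by omega), pf_mk, ps_mk, map_neg]
        exact (congrArg (_ + ·) hw).trans (by abel)
    · rw [mem_torsionSub_cons] at hm
      obtain ⟨a, ha, hmv⟩ := hsurj m hm.1
      obtain ⟨v, hv⟩ := hkill a ha (hmv ▸ hm.2)
      refine ⟨mk φ (show (-1 : ℤ) + 1 = 0 by omega) a (-v), ?_, ?_⟩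
      · show (mappingCocone φ).d 0 1 _ = 0
        refine (cocone_d φ 0 1 _).trans (neg_eq_zero.2 ?_)
        show (mappingCone φ).d (-1) 0 _ = 0
        refine ext φ (show (0 : ℤ) + 1 = 1 by omega) ?_ ?_
        · rw [pf_d φ (-1) 0 1 (by omega), pf_mk, map_zero, neg_eq_zero]; exact ha
        · rw [ps_d φ (-1) 0 (by omega), pf_mk, ps_mk, map_zero, map_neg]
          exact add_neg_eq_zero.2 hv.symm
      · show aug M fs (pf φ (-1) 0 _ (mk φ _ a (-v))) = m
        rw [pf_mk, hmv]
    · by_cases hp0 : 0 < p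
      · obtain ⟨w, hw⟩ := ex_locCx f (hpos hN hI p hp0) s q hs hp c hc
        exact ⟨0, w, map_zero _, by rw [map_zero, zero_add, hw]⟩
      obtain rfl : p = 0 := by omega
      obtain rfl : q = 1 := by omega
      obtain rfl : s = -1 := by omega
      obtain ⟨y, k, hy'⟩ := exists_li f K c
      have h1 : ι 1 (K.d 0 1 y) = 0 := by rw [← hLd, ← hy', map_smul, hc, smul_zero]
      obtain ⟨l, hl⟩ := (li_eq_zero_iff f K _).1 h1
      have hT := hmem (f ^ l • y) (by rw [map_smul, hl])
      haveI : Module.Injective R ↥(DRing.torsionSub (Ideal.span {x | x ∈ fs}) M) :=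
        haveI := hI; LocCohBasic.injective_torsionSub _ M
      obtain ⟨n, t, ht⟩ := LocCohBasic.exists_pow_smul_smul_sub_eq_zero f
        (⟨_, hT⟩ : ↥(DRing.torsionSub (Ideal.span {x | x ∈ fs}) M)) (k + l)
      obtain ⟨e, he, het⟩ := hsurj t.1 t.2
      obtain ⟨v, hv⟩ := hkill (f ^ l • y - f ^ (k + l) • e)
        (by rw [map_sub, map_smul, map_smul, hl, he, smul_zero, sub_zero]) ⟨n, by
          have h := congrArg Subtype.val ht
          rw [map_sub, map_smul (aug M fs) (f ^ (k + l)), het]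
          rw [← neg_sub (f ^ (k + l) • (t.1 : M)), smul_neg, neg_eq_zero]
          exact h⟩
      obtain ⟨w, hw'⟩ := pow_surj f K (k + l) v
      refine ⟨e, w, he, pow_inj f K (k + l) ?_⟩
      rw [smul_add, ← map_smul (L.d _ _).hom, hw', hv, map_sub, map_smul, map_smul, pow_add, mul_comm,
        mul_smul, hy', mul_comm]
      exact (add_sub_cancel _ _).symm

/-! ### The δ-functor -/

variable (fs : List R)

/-- `H^n` of the extended Cech complex. -/
def HF (n : ℕ) : ModuleCat.{u} R ⥤ ModuleCat.{u} R :=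
  extF fs ⋙ HomologicalComplex.homologyFunctor (ModuleCat.{u} R) (ComplexShape.up ℤ) (n : ℤ)

instance (n : ℕ) : (HF fs n).Additive := by unfold HF; infer_instance

lemma iCycles_d (z : (DerCA.extCech M fs).cycles 0) :
    (DerCA.extCech M fs).d 0 1 ((DerCA.extCech M fs).iCycles 0 z) = 0 :=
  congrArg (fun t => t.hom z) ((DerCA.extCech M fs).iCycles_d 0 1)

lemma iCycles_inj : Function.Injective ((DerCA.extCech M fs).iCycles 0).hom :=
  (ModuleCat.mono_iff_injective _).1 inferInstance

/-- Cycles of degree zero to torsion elements. -/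
def cyclesToTorsion : (DerCA.extCech M fs).cycles 0 ⟶ (DRing.gammaI (Ideal.span {x | x ∈ fs})).obj M :=
  ModuleCat.ofHom (((aug M fs).comp ((DerCA.extCech M fs).iCycles 0).hom).codRestrict
    (DRing.torsionSub (Ideal.span {x | x ∈ fs}) M) fun z => (spec M fs).h0.mem _ (iCycles_d M fs z))

/-- The map on cohomology. -/
def H0To : (DerCA.extCech M fs).homology 0 ⟶ (DRing.gammaI (Ideal.span {x | x ∈ fs})).obj M :=
  ((DerCA.extCech M fs).homologyIsCokernel (-1) 0 (by simp)).desc (CokernelCofork.ofπ (cyclesToTorsion M fs) (by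
    refine ModuleCat.hom_ext (LinearMap.ext fun w => Subtype.ext ?_)
    show aug M fs ((((DerCA.extCech M fs).toCycles (-1) 0) ≫ (DerCA.extCech M fs).iCycles 0) w) = 0
    rw [HomologicalComplex.toCycles_i]
    exact aug_d M fs (-1) rfl w))

lemma π_H0To : (DerCA.extCech M fs).homologyπ 0 ≫ H0To M fs = cyclesToTorsion M fs :=
  ((DerCA.extCech M fs).homologyIsCokernel (-1) 0 (by simp)).fac _ WalkingParallelPair.one

lemma H0To_bijective : Function.Bijective (H0To M fs).hom := by
  have hπ := congrArg (fun t => t.hom) (π_H0To M fs)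
  refine ⟨(injective_iff_map_eq_zero _).2 fun c hc => ?_, fun m => ?_⟩
  · obtain ⟨z, rfl⟩ := (ModuleCat.epi_iff_surjective ((DerCA.extCech M fs).homologyπ 0)).1 inferInstance c
    have h0 : aug M fs ((DerCA.extCech M fs).iCycles 0 z) = 0 := by
      exact congrArg Subtype.val ((LinearMap.congr_fun hπ z).symm.trans hc)
    obtain ⟨w, hw⟩ := (spec M fs).h0.inj _ (iCycles_d M fs z) h0
    have : z = (DerCA.extCech M fs).toCycles (-1) 0 w := iCycles_inj M fs (by
      rw [← ModuleCat.comp_apply, HomologicalComplex.toCycles_i]; exact hw.symm)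
    rw [this, ← ModuleCat.comp_apply, HomologicalComplex.toCycles_comp_homologyπ]
    rfl
  · obtain ⟨z, hz, hzm⟩ := (spec M fs).h0.surj m.1 m.2
    let c := (DerCA.extCech M fs).cyclesMk z 1 (by simp) hz
    refine ⟨(DerCA.extCech M fs).homologyπ 0 c, (LinearMap.congr_fun hπ c).trans (Subtype.ext ?_)⟩
    show aug M fs ((DerCA.extCech M fs).iCycles 0 c) = m.1
    exact (congrArg (aug M fs) ((DerCA.extCech M fs).i_cyclesMk _ _ _ _)).trans hzm

/-- Degree zero is torsion. -/
def zeroIso : DRing.gammaI (Ideal.span {x | x ∈ fs}) ≅ HF fs 0 :=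
  (NatIso.ofComponents (fun M => (LinearEquiv.ofBijective (H0To M fs).hom (H0To_bijective M fs)).toModuleIso)
    (fun {M N} g => by
      show HomologicalComplex.homologyMap (extMap g fs) 0 ≫ H0To N fs =
        H0To M fs ≫ (DRing.gammaI _).map g
      rw [← cancel_epi ((DerCA.extCech M fs).homologyπ 0), HomologicalComplex.homologyπ_naturality_assoc,
        π_H0To, reassoc_of% (π_H0To M fs)]
      refine ModuleCat.hom_ext (LinearMap.ext fun z => Subtype.ext ?_)
      show aug N fs ((HomologicalComplex.cyclesMap (extMap g fs) 0 ≫ (DerCA.extCech N fs).iCycles 0) z) = _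
      rw [HomologicalComplex.cyclesMap_i]
      exact aug_extMap M g fs _)).symm

variable [IsNoetherianRing R]

/-- Extended Cech cohomology as a δ-functor. -/
def delta : UnivDelta.DeltaFunctor (ModuleCat.{u} R) (ModuleCat.{u} R) where
  F n := HF fs n
  additive n := inferInstance
  δ hS n := (extF_shortExact hS fs).δ (n : ℤ) ((n + 1 : ℕ) : ℤ) (by simp)
  mono₁ {S} hS := by
    have hex := (extF_shortExact hS fs).homology_exact₁ (-1) 0 (by simp)
    exact hex.mono_g ((IsZero.eq_zero_of_src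
      ((exactAt_of_ex ((spec S.X₃ fs).neg (-1) (by omega))).isZero_homology)) _)
  exact₂ {S} hS n w := (extF_shortExact hS fs).homology_exact₂ (n : ℤ)
  map_g_δ {S} hS n := (extF_shortExact hS fs).comp_δ (n : ℤ) ((n + 1 : ℕ) : ℤ) (by simp)
  exact₃ {S} hS n := (extF_shortExact hS fs).homology_exact₃ (n : ℤ) ((n + 1 : ℕ) : ℤ) (by simp)
  δ_map_f {S} hS n := (extF_shortExact hS fs).δ_comp (n : ℤ) ((n + 1 : ℕ) : ℤ) (by simp)
  exact₁ {S} hS n := (extF_shortExact hS fs).homology_exact₁ (n : ℤ) ((n + 1 : ℕ) : ℤ) (by simp)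
  δ_nat {S S'} hS hS' φ n := (HomologicalComplex.HomologySequence.δ_naturality
    ((extF fs).mapShortComplex.map φ) (extF_shortExact hS fs) (extF_shortExact hS' fs)
    (n : ℤ) ((n + 1 : ℕ) : ℤ) (by simp)).symm
  isZero J _ n := (exactAt_of_ex ((spec J fs).pos inferInstance (Module.injective_module_of_injective_object R J)
    ((n + 1 : ℕ) : ℤ) (by omega))).isZero_homology

/-- Local cohomology is the cohomology of the extended Cech complex. -/
theorem nonempty_localCohomology_iso (i : ℕ) :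
    Nonempty (localCohomology (Ideal.span {x | x ∈ fs}) i ≅ HF fs i) := by
  obtain ⟨a⟩ := LocCohBasic.nonempty_iso_rightDerived_gammaI (Ideal.span {x | x ∈ fs}) i
  obtain ⟨b⟩ := UnivDelta.nonempty_iso_rightDerived (delta fs) i
  exact ⟨a ≪≫ LocCohBasic.rightDerivedIso (zeroIso fs) i ≪≫ b.symm⟩

end Groth.Agent.KoszulCech.ExtCech
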