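import Groth.Agent.KoszulCech.ExtCechOne
import Groth.Prelude.Def_LCI2

/-!
# Torsion, contractibility and Koszul comparison for the extended Cech complex
-/

set_option autoImplicit false

noncomputable section

universe u

open CategoryTheory Limits CochainComplex

namespace Groth.Agent.KoszulCech.ExtCech

variable {R : Type u} [CommRing R]

section Basic

variable {K L : DRing.Cx R}

/-- A cycle killed up to boundaries. -/
def Kills (K : DRing.Cx R) (q : ℤ) (a : R) (x : K.X q) : Prop :=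
  ∃ w : K.X (q - 1), K.d (q - 1) q w = a • x

lemma ex_of_exactAt {q : ℤ} (h : K.ExactAt q) : Ex K q := by
  intro p r hp hr x hx
  rw [HomologicalComplex.exactAt_iff' K p q r ((ComplexShape.up ℤ).prev_eq' hp)
    ((ComplexShape.up ℤ).next_eq' hr), ShortComplex.moduleCat_exact_iff] at h
  exact h x hx

lemma ex_of_subsingleton {q : ℤ} (h : Subsingleton (K.X q)) : Ex K q :=
  fun _ _ _ _ x _ => ⟨0, h.elim _ _⟩

lemma exists_w {q : ℤ} (h : Ex K q) {x : K.X q} (hx : K.d q (q + 1) x = 0) :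
    ∃ w : K.X (q - 1), K.d (q - 1) q w = x := h (q - 1) (q + 1) (by omega) rfl x hx

lemma ex_iff_kills {q : ℤ} : Ex K q ↔ ∀ x : K.X q, K.d q (q + 1) x = 0 → Kills K q 1 x := by
  refine ⟨fun h x hx => by obtain ⟨w, hw⟩ := exists_w h hx; exact ⟨w, by rw [hw, one_smul]⟩,
    fun h p r hp hr x hx => ?_⟩
  obtain rfl : p = q - 1 := by omega
  obtain rfl : r = q + 1 := by omega
  obtain ⟨w, hw⟩ := h x hx
  exact ⟨w, by rw [hw, one_smul]⟩

lemma Kills.mul {q : ℤ} {a : R} {x : K.X q} (h : Kills K q a x) (b : R) : Kills K q (b * a) x := by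
  obtain ⟨w, hw⟩ := h
  exact ⟨b • w, by rw [map_smul, hw, smul_smul]⟩

lemma Kills.add {q : ℤ} {a b : R} {x : K.X q} (h : Kills K q a x) (h' : Kills K q b x) :
    Kills K q (a + b) x := by
  obtain ⟨w, hw⟩ := h
  obtain ⟨v, hv⟩ := h'
  exact ⟨w + v, by rw [map_add, hw, hv, add_smul]⟩

lemma Kills.zero {q : ℤ} (x : K.X q) : Kills K q 0 x := ⟨0, by rw [map_zero, zero_smul]⟩

/-- The annihilator of a class. -/
def killIdeal (K : DRing.Cx R) (q : ℤ) (x : K.X q) : Ideal R where
  carrier := {a | Kills K q a x}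
  add_mem' := Kills.add
  zero_mem' := Kills.zero x
  smul_mem' b _ h := h.mul b

end Basic

/-- Each element of the list kills every class up to a power. -/
theorem exists_pow_kills (M : ModuleCat.{u} R) : ∀ (fs : List R) (q : ℤ) (x : (DerCA.extCech M fs).X q),
    (DerCA.extCech M fs).d q (q + 1) x = 0 → ∀ g ∈ fs, ∃ n : ℕ, Kills (DerCA.extCech M fs) q (g ^ n) x
  | [], _, _, _, g, hg => absurd hg List.not_mem_nil
  | f :: fs, q, x, hx, g, hg => by
    let K := DerCA.extCech M fs
    let φ := DerCA.locCxUnit (Submonoid.powers f) K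
    let L := (DerCA.locCx (Submonoid.powers f)).obj K
    have h1 : q + -1 + 1 = q := by omega
    have h2 : q - 1 + -1 + 1 = q + -1 := by omega
    let z : (mappingCone φ).X (q + -1) := x
    have hx' : (mappingCone φ).d (q + -1) (q + 1 + -1) z = 0 := neg_eq_zero.1 ((cocone_d φ q (q + 1) x).symm.trans hx)
    rw [show q + 1 + -1 = q by omega] at hx'
    obtain ⟨a, ha⟩ : ∃ a, pf φ (q + -1) q h1 z = a := ⟨_, rfl⟩
    obtain ⟨b, hb⟩ : ∃ b, ps φ (q + -1) z = b := ⟨_, rfl⟩
    have hda : K.d q (q + 1) a = 0 := by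
      have := congrArg (pf φ q (q + 1) rfl) hx'
      rw [pf_d φ (q + -1) q (q + 1) h1 rfl, map_zero, neg_eq_zero, ha] at this
      exact this
    have hdb : li f K q a + L.d (q + -1) q b = 0 := by
      have := congrArg (ps φ q) hx'
      rw [ps_d φ (q + -1) q h1, map_zero, ha, hb] at this
      exact this
    -- it suffices to find the components of a primitive
    suffices h : ∃ (n : ℕ) (e : K.X (q + -1)) (w : L.X (q - 1 + -1)),
        -(K.d (q + -1) q e) = g ^ n • a ∧
          φ.f (q + -1) e + L.d (q - 1 + -1) (q + -1) w = g ^ n • b by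
      obtain ⟨n, e, w, he, hw⟩ := h
      refine ⟨n, -(mk φ h2 e w : (mappingCone φ).X (q - 1 + -1)), ?_⟩
      refine (cocone_d φ (q - 1) q _).trans ?_
      show -((mappingCone φ).d (q - 1 + -1) (q + -1) (-(mk φ h2 e w))) = g ^ n • z
      rw [map_neg, neg_neg]
      refine ext φ h1 ?_ ?_
      · rw [pf_d φ _ _ _ h2 h1, pf_mk, map_smul, ha]; exact he
      · rw [ps_d φ _ _ h2, pf_mk, ps_mk, map_smul, hb]; exact hw
    obtain ⟨y, n, hy⟩ := exists_li f K b
    rcases List.mem_cons.1 hg with rfl | hg'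
    · have h3 : li g K q (g ^ n • a + K.d (q + -1) q y) = 0 := by
        rw [map_add, map_smul, ← li_d, ← hy, map_smul (L.d _ _).hom, ← smul_add]
        exact (congrArg (g ^ n • ·) hdb).trans (smul_zero _)
      obtain ⟨l, hl⟩ := (li_eq_zero_iff g K _).1 h3
      refine ⟨l + n, g ^ l • y, 0, ?_, ?_⟩
      · rw [map_smul, pow_add, mul_smul, neg_eq_iff_add_eq_zero, ← smul_add, add_comm]; exact hl
      · rw [map_zero, add_zero, pow_add, mul_smul, map_smul, hy]; rfl
    · have ih := exists_pow_kills M fs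
      obtain ⟨n₁, w₁, hw₁⟩ := ih q a hda g hg'
      obtain ⟨a', ha'⟩ : ∃ a' : K.X (q + -1), K.d (q + -1) q a' = g ^ n₁ • a := by
        rw [show q + -1 = q - 1 by omega]; exact ⟨w₁, hw₁⟩
      obtain ⟨c, hc⟩ : ∃ c : L.X (q + -1), c = g ^ n₁ • b + li f K (q + -1) a' := ⟨_, rfl⟩
      have hdc : L.d (q + -1) q c = 0 := by
        rw [hc, map_add, map_smul, li_d, ha', map_smul, ← smul_add, add_comm, hdb, smul_zero]
      obtain ⟨y', k, hy'⟩ := exists_li f K c
      have h3 : li f K q (K.d (q + -1) q y') = 0 := by rw [← li_d, ← hy', map_smul, hdc, smul_zero]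
      obtain ⟨l, hl⟩ := (li_eq_zero_iff f K _).1 h3
      obtain ⟨n₂, w₂, hw₂⟩ := ih (q + -1) (f ^ l • y')
        (by rw [show q + -1 + 1 = q by omega, map_smul, hl]) g hg'
      obtain ⟨w₃, hw₃⟩ : ∃ w₃ : K.X (q - 1 + -1), K.d (q - 1 + -1) (q + -1) w₃ = g ^ n₂ • f ^ l • y' := by
        rw [show q - 1 + -1 = q + -1 - 1 by omega]; exact ⟨w₂, hw₂⟩
      obtain ⟨v, hv⟩ := pow_surj f K (l + k) (li f K (q - 1 + -1) w₃)
      refine ⟨n₂ + n₁, -(g ^ n₂ • a'), v, ?_, ?_⟩
      · rw [map_neg, neg_neg, map_smul, ha', pow_add, mul_smul]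
      · have h4 : L.d (q - 1 + -1) (q + -1) v = g ^ n₂ • c := pow_inj f K (l + k) (by
          rw [← map_smul, hv, li_d, hw₃, map_smul, map_smul, ← hy', smul_smul (f ^ l), ← pow_add, smul_comm])
        rw [h4, hc, map_neg, map_smul, smul_add, pow_add, mul_smul, ← add_assoc]
        show -(g ^ n₂ • li f K (q + -1) a') + g ^ n₂ • g ^ n₁ • b + g ^ n₂ • li f K (q + -1) a' = _
        abel

/-- Vanishing above the length. -/
lemma subsingleton_X_gt (M : ModuleCat.{u} R) : ∀ (fs : List R) (q : ℤ), (fs.length : ℤ) < q →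
    Subsingleton ((DerCA.extCech M fs).X q)
  | [], q, hq => ModuleCat.subsingleton_of_isZero (HomologicalComplex.isZero_single_obj_X _ _ _ _
      (by simp at hq; omega))
  | f :: fs, q, hq => by
    have hq' : (fs.length : ℤ) + 1 < q := by simpa using hq
    let φ := DerCA.locCxUnit (Submonoid.powers f) (DerCA.extCech M fs)
    haveI h1 := subsingleton_X_gt M fs (q + -1 + 1) (by omega)
    haveI h0 := subsingleton_X_gt M fs (q + -1) (by omega)
    refine ⟨fun (x y : (mappingCone φ).X (q + -1)) => ext φ rfl (Subsingleton.elim _ _) ?_⟩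
    obtain ⟨a, k, ha⟩ := exists_li f _ (ps φ (q + -1) x)
    obtain ⟨b, l, hb⟩ := exists_li f _ (ps φ (q + -1) y)
    refine pow_inj f _ (k + l) ?_
    rw [pow_add, mul_smul, mul_smul, smul_comm (f ^ k) (f ^ l), ha, hb, Subsingleton.elim a 0,
      Subsingleton.elim b 0]
    simp

/-! ### Koszul cones -/

/-- Iterated cones of multiplications. -/
def kz (K : DRing.Cx R) : List R → DRing.Cx R
  | [] => K
  | c :: l => mappingCone (c • 𝟙 (kz K l))

lemma kz_single : ∀ l : List R,
    kz ((CochainComplex.singleFunctor (ModuleCat.{u} R) 0).obj (ModuleCat.of R R)) l = Koszul.koszul R l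
  | [] => rfl
  | c :: l => congrArg (fun K : DRing.Cx R => mappingCone (c • 𝟙 K)) (kz_single l)

/-- The map of cones of a multiplication. -/
def kzStep {K K' : DRing.Cx R} (c : R) (t : K ⟶ K') : mappingCone (c • 𝟙 K) ⟶ mappingCone (c • 𝟙 K') :=
  mappingCone.map _ _ t t (by rw [Linear.smul_comp, Linear.comp_smul, Category.id_comp, Category.comp_id])

/-- Iterated cone, on maps. -/
def kzMap {K K' : DRing.Cx R} (t : K ⟶ K') : ∀ l : List R, kz K l ⟶ kz K' l
  | [] => t
  | c :: l => kzStep c (kzMap t l)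

lemma pf_kzStep {K K' : DRing.Cx R} (c : R) (t : K ⟶ K') (i j : ℤ) (h : i + 1 = j) (x) :
    pf (c • 𝟙 K') i j h ((kzStep c t).f i x) = t.f j (pf (c • 𝟙 K) i j h x) := by
  rw [pf, pf, ← ModuleCat.comp_apply, ← ModuleCat.comp_apply]
  congr 2
  simp [mappingCone.ext_from_iff _ j i h, kzStep, mappingCone.map]

lemma ps_kzStep {K K' : DRing.Cx R} (c : R) (t : K ⟶ K') (i : ℤ) (x) :
    ps (c • 𝟙 K') i ((kzStep c t).f i x) = t.f i (ps (c • 𝟙 K) i x) := by
  rw [ps, ps, ← ModuleCat.comp_apply, ← ModuleCat.comp_apply]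
  congr 2
  simp [mappingCone.ext_from_iff _ (i + 1) i rfl, kzStep, mappingCone.map]

/-- Degreewise short exact. -/
structure DSE {A B C : DRing.Cx R} (i : A ⟶ B) (p : B ⟶ C) : Prop where
  inj : ∀ q, Function.Injective (i.f q).hom
  surj : ∀ q, Function.Surjective (p.f q).hom
  exact : ∀ q, Function.Exact (i.f q).hom (p.f q).hom

lemma DSE.step {A B C : DRing.Cx R} {i : A ⟶ B} {p : B ⟶ C} (h : DSE i p) (c : R) :
    DSE (kzStep c i) (kzStep c p) := by
  obtain ⟨hi, hp, he⟩ := h
  refine ⟨fun q a b hab => ExtCech.ext _ rfl (hi (q + 1) ?_) (hi q ?_), fun q y => ?_,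
    fun q y => ⟨fun hy => ?_, ?_⟩⟩
  · exact (pf_kzStep c i _ _ rfl a).symm.trans ((congrArg _ hab).trans (pf_kzStep c i _ _ rfl b))
  · exact (ps_kzStep c i _ a).symm.trans ((congrArg _ hab).trans (ps_kzStep c i _ b))
  · obtain ⟨a, ha⟩ := hp _ (pf _ q (q + 1) rfl y)
    obtain ⟨b, hb⟩ := hp _ (ps _ q y)
    refine ⟨ExtCech.mk _ rfl a b, ExtCech.ext _ rfl ?_ ?_⟩
    · rw [pf_kzStep, pf_mk]; exact ha
    · rw [ps_kzStep, ps_mk]; exact hb
  · obtain ⟨a, ha⟩ := (he _ (pf _ q (q + 1) rfl y)).1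
      ((pf_kzStep c p _ _ rfl y).symm.trans ((congrArg _ hy).trans (map_zero _)))
    obtain ⟨b, hb⟩ := (he _ (ps _ q y)).1
      ((ps_kzStep c p _ y).symm.trans ((congrArg _ hy).trans (map_zero _)))
    refine ⟨ExtCech.mk _ rfl a b, ExtCech.ext _ rfl ?_ ?_⟩
    · rw [pf_kzStep, pf_mk]; exact ha
    · rw [ps_kzStep, ps_mk]; exact hb
  · rintro ⟨x, rfl⟩
    refine ExtCech.ext _ rfl ?_ ?_
    · rw [pf_kzStep, pf_kzStep, map_zero]; exact (he _).apply_apply_eq_zero _
    · rw [ps_kzStep, ps_kzStep, map_zero]; exact (he _).apply_apply_eq_zero _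

lemma DSE.kz {A B C : DRing.Cx R} {i : A ⟶ B} {p : B ⟶ C} (h : DSE i p) :
    ∀ l : List R, DSE (kzMap i l) (kzMap p l)
  | [] => h
  | c :: l => (DSE.kz h l).step c

lemma DSE.ex {A B C : DRing.Cx R} {i : A ⟶ B} {p : B ⟶ C} (h : DSE i p) {q : ℤ} (hA : Ex A q) (hC : Ex C q) :
    Ex B q := by
  intro s r hs hr x hx
  obtain ⟨c, hc⟩ := hC s r hs hr (p.f q x) (by
    rw [← ModuleCat.comp_apply, p.comm, ModuleCat.comp_apply, hx, map_zero])
  obtain ⟨b, rfl⟩ := h.surj s c
  obtain ⟨a, ha⟩ := (h.exact q (x - B.d s q b)).1 (by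
    rw [map_sub, ← ModuleCat.comp_apply (B.d s q), ← p.comm, ModuleCat.comp_apply, hc, sub_self])
  obtain ⟨a', rfl⟩ := hA s r hs hr a (h.inj r (by
    rw [map_zero, ← ModuleCat.comp_apply, ← i.comm, ModuleCat.comp_apply, ha, map_sub, hx,
      ← ModuleCat.comp_apply (B.d s q), HomologicalComplex.d_comp_d]
    simp))
  refine ⟨b + i.f s a', ?_⟩
  rw [map_add, ← ModuleCat.comp_apply (i.f s), i.comm, ModuleCat.comp_apply, ha, add_sub_cancel]

lemma smul_id_apply {K : DRing.Cx R} (c : R) (i : ℤ) (x : K.X i) : (c • 𝟙 K : K ⟶ K).f i x = c • x := rfl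

lemma bijective_kz {K : DRing.Cx R} {g : R} (hb : ∀ i, Function.Bijective fun x : K.X i => g • x) :
    ∀ (l : List R) (i : ℤ), Function.Bijective fun x : (kz K l).X i => g • x
  | [], i => hb i
  | c :: l, i => by
    have ih := bijective_kz hb l
    refine ⟨fun a b hab => ext (c • 𝟙 (kz K l)) rfl ((ih _).1 ?_) ((ih _).1 ?_), fun x => ?_⟩
    · exact ((pf _ i (i + 1) rfl).map_smul g a).symm.trans ((congrArg _ hab).trans ((pf _ i (i + 1) rfl).map_smul g b))
    · exact ((ps _ i).map_smul g a).symm.trans ((congrArg _ hab).trans ((ps _ i).map_smul g b))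
    · obtain ⟨a, ha⟩ := (ih _).2 (pf (c • 𝟙 (kz K l)) i (i + 1) rfl x)
      obtain ⟨b, hb'⟩ := (ih _).2 (ps (c • 𝟙 (kz K l)) i x)
      refine ⟨mk _ rfl a b, ext (c • 𝟙 (kz K l)) rfl ?_ ?_⟩
      · exact ((pf _ i _ rfl).map_smul g _).trans ((congrArg (g • ·) (pf_mk _ rfl a b)).trans ha)
      · exact ((ps _ i).map_smul g _).trans ((congrArg (g • ·) (ps_mk _ rfl a b)).trans hb')

/-- A Koszul cone on an element acting bijectively is exact. -/
lemma ex_kz_of_bijective {K : DRing.Cx R} {g : R} (hb : ∀ i, Function.Bijective fun x : K.X i => g • x) :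
    ∀ (l : List R), g ∈ l → ∀ q : ℤ, Ex (kz K l) q
  | [], h, _ => absurd h List.not_mem_nil
  | c :: l, h, q => by
    intro p r hp hr x hx
    let φ := c • 𝟙 (kz K l)
    let z : (mappingCone φ).X q := x
    change (mappingCone φ).d q r z = 0 at hx
    show ∃ w : (mappingCone φ).X p, (mappingCone φ).d p q w = z
    obtain ⟨r', hr'⟩ : ∃ r', r + 1 = r' := ⟨_, rfl⟩
    have e1 := congrArg (pf φ r r' hr') hx
    rw [pf_d φ q r r' hr hr', map_zero, neg_eq_zero] at e1
    have e2 := congrArg (ps φ r) hx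
    rw [ps_d φ q r hr, map_zero, smul_id_apply] at e2
    by_cases hl : g ∈ l
    · have ih := ex_kz_of_bijective hb l hl
      obtain ⟨a', ha'⟩ := ih r q r' hr hr' _ e1
      obtain ⟨w, hw⟩ := ih q p r hp hr (ps φ q z + c • a') (by
        rw [map_add, map_smul, ha', add_comm]; exact e2)
      refine ⟨mk φ hp (-a') w, ext φ hr ?_ ?_⟩
      · rw [pf_d φ p q r hp hr, pf_mk, map_neg, neg_neg, ha']
      · rw [ps_d φ p q hp, pf_mk, ps_mk, smul_id_apply, hw, smul_neg]; abel
    · obtain rfl : g = c := (List.mem_cons.1 h).resolve_right hl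
      obtain ⟨e, he⟩ := (bijective_kz hb l q).2 (ps φ q z)
      refine ⟨mk φ hp e 0, ext φ hr ?_ ?_⟩
      · rw [pf_d φ p q r hp hr, pf_mk, neg_eq_iff_add_eq_zero]
        refine (bijective_kz hb l r).1 (?_ : g • ((kz K l).d q r e + pf φ q r hr z) = g • (0 : (kz K l).X r))
        rw [smul_add, ← map_smul, smul_zero, add_comm]
        refine Eq.trans ?_ e2
        exact congrArg (fun t => g • pf φ q r hr z + (kz K l).d q r t) he
      · rw [ps_d φ p q hp, pf_mk, ps_mk, smul_id_apply, map_zero, add_zero]; exact he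

/-- The augmentation `mappingCocone φ ⟶ K`. -/
def coconeFst {K L : DRing.Cx R} (φ : K ⟶ L) : mappingCocone φ ⟶ K where
  f q := ModuleCat.ofHom (pf φ (q + -1) q (by omega))
  comm' := fun i j (hij : i + 1 = j) => ModuleCat.hom_ext (LinearMap.ext fun x => by
    show K.d i j (pf φ (i + -1) i (by omega) x) = pf φ (j + -1) j (by omega) ((mappingCocone φ).d i j x)
    refine Eq.trans ?_ (congrArg (pf φ (j + -1) j (by omega)) (cocone_d φ i j x)).symm
    have hj : j + -1 = i := by omega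
    subst hj
    rw [map_neg, pf_d φ (j + -1 + -1) (j + -1) j (by omega) (by omega), neg_neg])

lemma dse_cocone {K L : DRing.Cx R} (φ : K ⟶ L) :
    DSE ((CategoryTheory.shiftFunctor (DRing.Cx R) (-1 : ℤ)).map (mappingCone.inr φ)) (coconeFst φ) := by
  have h1 : ∀ q : ℤ, q + -1 + 1 = q := fun q => by omega
  have hs : ∀ (q : ℤ) (b : L.X (q + -1)), ps φ (q + -1) ((mappingCone.inr φ).f (q + -1) b) = b := fun q b => by
    rw [ps, ← ModuleCat.comp_apply, mappingCone.inr_f_snd_v]; rfl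
  have hf : ∀ (q : ℤ) (b : L.X (q + -1)), pf φ (q + -1) q (h1 q) ((mappingCone.inr φ).f (q + -1) b) = 0 :=
    fun q b => by rw [pf, ← ModuleCat.comp_apply, mappingCone.inr_f_fst_v]; rfl
  refine ⟨fun q a b hab => ?_, fun q a => ⟨mk φ (h1 q) a 0, pf_mk φ (h1 q) a 0⟩,
    fun q (y : (mappingCone φ).X (q + -1)) => ⟨fun hy => ⟨ps φ (q + -1) y, ext φ (h1 q) ?_ ?_⟩, ?_⟩⟩
  · exact (hs q a).symm.trans ((congrArg (ps φ (q + -1)) hab).trans (hs q b))
  · exact (hf q _).trans hy.symm
  · exact hs q _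
  · rintro ⟨b, rfl⟩
    exact hf q b

lemma ex_kz_extCech {l : List R} {M : ModuleCat.{u} R} {q : ℤ}
    (h : Ex (kz ((CochainComplex.singleFunctor (ModuleCat.{u} R) 0).obj M) l) q) :
    ∀ gs : List R, (∀ g ∈ gs, g ∈ l) → Ex (kz (DerCA.extCech M gs) l) q
  | [], _ => h
  | g :: gs, hg => by
    let φ := DerCA.locCxUnit (Submonoid.powers g) (DerCA.extCech M gs)
    refine ((dse_cocone φ).kz l).ex ?_ (ex_kz_extCech h gs fun x hx => hg x (List.mem_cons_of_mem g hx))
    refine ex_kz_of_bijective (g := g) (fun i => ?_) l (hg g List.mem_cons_self) q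
    exact ⟨fun a b hab => pow_inj g _ 1 ((congrArg (· • a) (pow_one g)).trans (hab.trans (congrArg (· • b) (pow_one g)).symm)),
      fun a => by obtain ⟨b, hb⟩ := pow_surj g _ 1 a; exact ⟨b, (congrArg (· • b) (pow_one g)).symm.trans hb⟩⟩

/-- A nonzero class killed by the list gives a nonzero class of the Koszul cones. -/
lemma exists_kz_class : ∀ (l : List R) (K : DRing.Cx R) (q : ℤ), (∀ i, i < q → Ex K i) → ∀ x : K.X q,
    K.d q (q + 1) x = 0 → ¬ Kills K q 1 x → (∀ c ∈ l, Kills K q c x) →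
    ∃ m : ℤ, m + (l.length : ℤ) = q ∧ (∀ i, i < m → Ex (kz K l) i) ∧ ∃ z : (kz K l).X m,
      (kz K l).d m (m + 1) z = 0 ∧ ¬ Kills (kz K l) m 1 z ∧ ∀ a : R, Kills K q a x → Kills (kz K l) m a z
  | [], K, q, hlow, x, hx, hn, _ => ⟨q, by simp, hlow, x, hx, hn, fun _ h => h⟩
  | c :: l, K, q, hlow, x, hx, hn, hk => by
    obtain ⟨m, hm, hlow', z, hz, hzn, hza⟩ :=
      exists_kz_class l K q hlow x hx hn fun a ha => hk a (List.mem_cons_of_mem c ha)
    obtain ⟨w, hw⟩ := hza c (hk c List.mem_cons_self)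
    let φ := c • 𝟙 (kz K l)
    have h1 : m - 1 + 1 = m := by omega
    have hexc : ∀ i, i < m - 1 → Ex (mappingCone φ) i := by
      intro i hi p r hp hr y hy
      obtain ⟨r', hr'⟩ : ∃ r', r + 1 = r' := ⟨_, rfl⟩
      have e1 := congrArg (pf φ r r' hr') hy
      rw [pf_d φ i r r' hr hr', map_zero, neg_eq_zero] at e1
      have e2 := congrArg (ps φ r) hy
      rw [ps_d φ i r hr, map_zero, smul_id_apply] at e2
      obtain ⟨a', ha'⟩ := hlow' r (by omega) i r' hr hr' _ e1
      obtain ⟨v, hv⟩ := hlow' i (by omega) p r hp hr (ps φ i y + c • a') (by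
        rw [map_add, map_smul, ha', add_comm]; exact e2)
      refine ⟨mk φ hp (-a') v, ext φ hr ?_ ?_⟩
      · rw [pf_d φ p i r hp hr, pf_mk, map_neg, neg_neg, ha']
      · rw [ps_d φ p i hp, pf_mk, ps_mk, smul_id_apply, hv, smul_neg]; abel
    refine ⟨m - 1, by push_cast [List.length_cons]; omega, hexc, mk φ h1 z (-w), ?_, ?_, ?_⟩
    · show (mappingCone φ).d (m - 1) (m - 1 + 1) _ = 0
      rw [h1]
      refine ext φ (rfl : m + 1 = m + 1) ?_ ?_
      · rw [pf_d φ (m - 1) m (m + 1) h1 rfl, pf_mk, hz, neg_zero, map_zero]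
      · rw [ps_d φ (m - 1) m h1, pf_mk, ps_mk, smul_id_apply, map_neg, hw, add_neg_cancel, map_zero]
    · rintro ⟨v, hv⟩
      refine hzn ?_
      obtain ⟨v', hv'⟩ : ∃ v', -(pf φ (m - 1 - 1) (m - 1) (by omega) v) = v' := ⟨_, rfl⟩
      refine ⟨v', ?_⟩
      have hv2 : (mappingCone φ).d (m - 1 - 1) (m - 1) v = (1 : R) • mk φ h1 z (-w) := hv
      have := congrArg (pf φ (m - 1) m h1) hv2
      rw [pf_d φ (m - 1 - 1) (m - 1) m (by omega) h1, map_smul, pf_mk] at this
      rw [← hv', map_neg]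
      exact this
    · intro a ha
      obtain ⟨v, hv⟩ := hza a ha
      have hcy : (kz K l).d (m - 1) (m - 1 + 1) (c • v - a • w) = 0 := by
        rw [h1, map_sub, map_smul, map_smul, hv, hw, smul_comm, sub_self]
      obtain ⟨u, hu⟩ := exists_w (hlow' (m - 1) (by omega)) hcy
      refine ⟨(mk φ (by omega : m - 1 - 1 + 1 = m - 1) (-v) u : (mappingCone φ).X (m - 1 - 1)), ?_⟩
      show (mappingCone φ).d (m - 1 - 1) (m - 1) _ = a • mk φ h1 z (-w)
      refine ext φ h1 ?_ ?_
      · rw [pf_d φ (m - 1 - 1) (m - 1) m (by omega) h1, pf_mk, map_neg, neg_neg, map_smul, pf_mk, hv]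
      · rw [ps_d φ (m - 1 - 1) (m - 1) (by omega), pf_mk, ps_mk, smul_id_apply, hu, map_smul, ps_mk,
          smul_neg, smul_neg]
        abel

/-- A class killed by powers vanishes once classes killed by the elements do. -/
lemma kills_one_of_pow (K : DRing.Cx R) (q : ℤ) (fs : List R)
    (h : ∀ x : K.X q, K.d q (q + 1) x = 0 → (∀ g ∈ fs, Kills K q g x) → Kills K q 1 x) :
    ∀ (l : List R) (x : K.X q), K.d q (q + 1) x = 0 → (∀ g ∈ fs, g ∉ l → Kills K q g x) →
      (∀ g ∈ fs, ∃ n : ℕ, Kills K q (g ^ n) x) → Kills K q 1 x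
  | [], x, hx, hk, _ => h x hx fun g hg => hk g hg List.not_mem_nil
  | c :: l, x, hx, hk, hp => by
    by_cases hc : c ∈ fs
    · obtain ⟨n, hn⟩ := hp c hc
      clear hc
      induction n generalizing x with
      | zero => rwa [pow_zero] at hn
      | succ n ih =>
        have h' : ∀ a, Kills K q a x → Kills K q a (c • x) := fun a ha => by
          obtain ⟨w, hw⟩ := ha
          exact ⟨c • w, by rw [map_smul, hw, smul_comm]⟩
        have hcx : Kills K q 1 (c • x) := ih (c • x) (by rw [map_smul, hx, smul_zero])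
          (fun g hg hgl => h' _ (hk g hg hgl))
          (fun g hg => let ⟨k, hk'⟩ := hp g hg; ⟨k, h' _ hk'⟩)
          (by obtain ⟨w, hw⟩ := hn; exact ⟨w, by rw [hw, smul_smul, pow_succ]⟩)
        refine kills_one_of_pow K q fs h l x hx (fun g hg hgl => ?_) hp
        by_cases hgc : g = c
        · obtain ⟨w, hw⟩ := hcx
          exact ⟨w, by rw [hw, hgc, one_smul]⟩
        · exact hk g hg (by simp [hgc, hgl])
    · exact kills_one_of_pow K q fs h l x hx (fun g hg hgl => hk g hg (by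
        have : g ≠ c := fun e => hc (e ▸ hg)
        simp [this, hgl])) hp

/-- For a Koszul-regular list the complex only has cohomology in the top degree. -/
theorem ex_of_koszulRegular (fs : List R) (hfs : LCI.IsKoszulRegularSeq R fs) :
    ∀ q : ℤ, q < fs.length → Ex (DerCA.extCech (ModuleCat.of R R) fs) q := by
  suffices H : ∀ n : ℕ, ∀ q : ℤ, q < n → q < fs.length → Ex (DerCA.extCech (ModuleCat.of R R) fs) q from
    fun q hq => H fs.length q hq hq
  intro n
  induction n with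
  | zero => exact fun q hq _ => (spec _ fs).neg q (by simpa using hq)
  | succ n ih =>
    intro q hq hqr
    by_cases hqn : q < n
    · exact ih q hqn hqr
    rw [ex_iff_kills]
    refine fun x hx => kills_one_of_pow _ q fs (fun y hy hky => ?_) fs x hx (fun g hg hg' => absurd hg hg')
      (fun g hg => exists_pow_kills _ fs q x hx g hg)
    by_contra hn
    obtain ⟨m, hm, -, z, hz, hzn, -⟩ := exists_kz_class fs _ q (fun i hi => ih i (by omega) (by omega)) y hy hn hky
    have hK : Ex (kz ((CochainComplex.singleFunctor (ModuleCat.{u} R) 0).obj (ModuleCat.of R R)) fs) m := by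
      rw [kz_single]
      exact ex_of_exactAt ((HomologicalComplex.exactAt_iff_isZero_homology _ _).2 (hfs m (by omega)))
    exact hzn (ex_iff_kills.1 (ex_kz_extCech hK fs fun g hg => hg) z hz)

/-! ### Contractibility -/

section Contract

variable {K L : DRing.Cx R}

lemma isZero_quotient_cocone (φ : K ⟶ L)
    (h : IsIso ((HomotopyCategory.quotient (ModuleCat.{u} R) (ComplexShape.up ℤ)).map φ)) :
    IsZero ((HomotopyCategory.quotient (ModuleCat.{u} R) (ComplexShape.up ℤ)).obj (mappingCocone φ)) :=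
  IsZero.of_iso (Functor.map_isZero (CategoryTheory.shiftFunctor _ (-1 : ℤ))
    (Pretriangulated.Triangle.isZero₃_of_isIso₁ _ (HomotopyCategory.mappingCone_triangleh_distinguished φ) h))
    (((HomotopyCategory.quotient (ModuleCat.{u} R) (ComplexShape.up ℤ)).commShiftIso (-1 : ℤ)).app _)

/-- With a unit in the list, the complex is contractible. -/
theorem isZero_quotient_extCech (M : ModuleCat.{u} R) : ∀ fs : List R, (∃ f ∈ fs, IsUnit f) →
    IsZero ((HomotopyCategory.quotient (ModuleCat.{u} R) (ComplexShape.up ℤ)).obj (DerCA.extCech M fs))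
  | [], h => by obtain ⟨f, hf, -⟩ := h; exact absurd hf List.not_mem_nil
  | g :: gs, h => by
    refine isZero_quotient_cocone (DerCA.locCxUnit (Submonoid.powers g) (DerCA.extCech M gs)) ?_
    by_cases hgs : ∃ f ∈ gs, IsUnit f
    · have hz := isZero_quotient_extCech M gs hgs
      obtain ⟨H⟩ := (HomotopyCategory.isZero_quotient_obj_iff _).1 hz
      refine isIso_of_source_target_iso_zero _ hz.isoZero
        (IsZero.isoZero ((HomotopyCategory.isZero_quotient_obj_iff _).2 ⟨?_⟩))
      exact (Homotopy.ofEq ((DerCA.locCx (Submonoid.powers g)).map_id _).symm).trans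
        (((DerCA.locFunctor (Submonoid.powers g)).mapHomotopy H).trans
          (Homotopy.ofEq ((DerCA.locCx (Submonoid.powers g)).map_zero _ _)))
    · obtain ⟨f, hf, hu⟩ := h
      obtain rfl : f = g := (List.mem_cons.1 hf).resolve_right fun hf' => hgs ⟨f, hf', hu⟩
      have hpk : ∀ (i : ℤ) (k : ℕ), Function.Bijective fun x : (DerCA.extCech M gs).X i => f ^ k • x :=
        fun i k => (Module.End.isUnit_iff _).1 ((hu.pow k).map (algebraMap R (Module.End R _)))
      haveI : ∀ i, IsIso ((DerCA.locCxUnit (Submonoid.powers f) (DerCA.extCech M gs)).f i) := fun i => by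
        refine (ConcreteCategory.isIso_iff_bijective _).2 ⟨(injective_iff_map_eq_zero
          (li f (DerCA.extCech M gs) i)).2 fun y hy => ?_, fun a => ?_⟩
        · obtain ⟨k, hk⟩ := (li_eq_zero_iff f _ _).1 hy
          exact (hpk i k).1 (hk.trans (smul_zero _).symm)
        · obtain ⟨y, k, hy⟩ := exists_li f _ a
          obtain ⟨z, hz⟩ := (hpk i k).2 y
          refine ⟨z, pow_inj f _ k ?_⟩
          show f ^ k • li f _ i z = f ^ k • a
          rw [← map_smul, hy]
          exact congrArg _ hz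
      haveI : IsIso (DerCA.locCxUnit (Submonoid.powers f) (DerCA.extCech M gs)) :=
        HomologicalComplex.Hom.isIso_of_components _
      infer_instance

end Contract

end Groth.Agent.KoszulCech.ExtCech
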