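import Groth.Agent.KoszulCech.Main
import Groth.Agent.InjHullBasic.Noetherian
import Mathlib.Algebra.Category.ModuleCat.Injective
import Mathlib.Algebra.Module.LocalizedModule.Exact
import Mathlib.Data.List.FinRange

/-!
# The augmented Cech cochains of all localisations of a module, as a functor
-/

set_option autoImplicit false

noncomputable section

universe u

open Finset CategoryTheory

namespace Groth.Agent.KoszulCech

variable {A : Type u} [CommRing A] {r : ℕ} (f : Fin r → A)

/-- All localisations of a module. -/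
def locSys (M : Type u) [AddCommGroup M] [Module A M] : Sys A M f where
  N S := ModuleCat.of A (LocalizedModule (Submonoid.powers (∏ j ∈ S, f j)) M)
  η S := LocalizedModule.mkLinearMap (Submonoid.powers (∏ j ∈ S, f j)) M
  loc S := localizedModuleIsLocalizedModule _

variable {M M' M'' : Type u} [AddCommGroup M] [Module A M] [AddCommGroup M'] [Module A M']
  [AddCommGroup M''] [Module A M'']

/-- Functoriality of the localisations. -/
def nmap (g : M →ₗ[A] M') (S : Finset (Fin r)) : (locSys f M).N S →ₗ[A] (locSys f M').N S :=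
  haveI := (locSys f M).loc S
  haveI := (locSys f M').loc S
  IsLocalizedModule.map (Submonoid.powers (∏ j ∈ S, f j)) ((locSys f M).η S) ((locSys f M').η S) g

lemma nmap_η (g : M →ₗ[A] M') (S : Finset (Fin r)) (m : M) :
    nmap f g S ((locSys f M).η S m) = (locSys f M').η S (g m) :=
  haveI := (locSys f M).loc S
  haveI := (locSys f M').loc S
  IsLocalizedModule.map_apply _ _ _ g m

lemma nmap_ext (S : Finset (Fin r)) {a b : (locSys f M).N S →ₗ[A] (locSys f M').N S}
    (h : ∀ m, a ((locSys f M).η S m) = b ((locSys f M).η S m)) : a = b := by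
  haveI := (locSys f M).loc S
  exact IsLocalizedModule.ext (Submonoid.powers (∏ j ∈ S, f j)) ((locSys f M).η S)
    ((locSys f M').isUnit_of_dvd subset_rfl) (LinearMap.ext h)

lemma nmap_id (S : Finset (Fin r)) : nmap f (LinearMap.id : M →ₗ[A] M) S = LinearMap.id :=
  nmap_ext f S fun m => by rw [nmap_η]; rfl

lemma nmap_add (g g' : M →ₗ[A] M') (S : Finset (Fin r)) :
    nmap f (g + g') S = nmap f g S + nmap f g' S :=
  map_add _ g g'

lemma nmap_comp (g : M →ₗ[A] M') (g' : M' →ₗ[A] M'') (S : Finset (Fin r)) :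
    nmap f (g'.comp g) S = (nmap f g' S).comp (nmap f g S) :=
  nmap_ext f S fun m => by
    rw [nmap_η, LinearMap.comp_apply, LinearMap.comp_apply, nmap_η, nmap_η]

lemma nmap_tr (g : M →ₗ[A] M') (S T : Finset (Fin r)) (x : (locSys f M).N S) :
    nmap f g T ((locSys f M).tr S T x) = (locSys f M').tr S T (nmap f g S x) := by
  by_cases h : S ⊆ T
  · haveI := (locSys f M).loc S
    refine LinearMap.congr_fun (IsLocalizedModule.ext (Submonoid.powers (∏ j ∈ S, f j))
      ((locSys f M).η S) (j := (nmap f g T).comp ((locSys f M).tr S T))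
      (k := ((locSys f M').tr S T).comp (nmap f g S)) ((locSys f M').isUnit_of_dvd h)
      (LinearMap.ext fun m => ?_)) x
    simp only [LinearMap.comp_apply, (locSys f M).tr_η h, nmap_η, (locSys f M').tr_η h]
  · rw [Sys.tr_zero _ h, Sys.tr_zero _ h]
    simp

variable {κ : Type} (e : κ → Fin r) (T : Finset (Fin r))

/-- Functoriality of the cochains. -/
def cmap (g : M →ₗ[A] M') {p : ℕ} : C (locSys f M) e T p →ₗ[A] C (locSys f M') e T p :=
  LinearMap.pi fun i => (nmap f g _).comp (LinearMap.proj i)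

lemma cmap_apply (g : M →ₗ[A] M') {p : ℕ} (s : C (locSys f M) e T p) (i : Fin p → κ) :
    cmap f e T g s i = nmap f g _ (s i) := rfl

lemma cmap_d (g : M →ₗ[A] M') {p : ℕ} (s : C (locSys f M) e T p) :
    cmap f e T g (d (locSys f M) T s) = d (locSys f M') T (cmap f e T g s) := by
  funext i
  simp only [cmap_apply, d, D_apply, map_sum, map_zsmul, nmap_tr]

lemma cmap_id {p : ℕ} (s : C (locSys f M) e T p) : cmap f e T LinearMap.id s = s := by
  funext i
  rw [cmap_apply, nmap_id]
  rfl

lemma cmap_comp (g : M →ₗ[A] M') (g' : M' →ₗ[A] M'') {p : ℕ} (s : C (locSys f M) e T p) :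
    cmap f e T (g'.comp g) s = cmap f e T g' (cmap f e T g s) := by
  funext i
  rw [cmap_apply, nmap_comp]
  rfl

lemma cmap_add (g g' : M →ₗ[A] M') {p : ℕ} (s : C (locSys f M) e T p) :
    cmap f e T (g + g') s = cmap f e T g s + cmap f e T g' s := by
  funext i
  rw [Pi.add_apply, cmap_apply, nmap_add]
  rfl

lemma cmap_injective {g : M →ₗ[A] M'} (hg : Function.Injective g) {p : ℕ} :
    Function.Injective (cmap f e T g : C (locSys f M) e T p → _) := fun a b h => funext fun i => by
  haveI := (locSys f M).loc (T ∪ univ.image (e ∘ i))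
  haveI := (locSys f M').loc (T ∪ univ.image (e ∘ i))
  exact IsLocalizedModule.map_injective _ _ _ g hg (congrFun h i)

lemma cmap_surjective {g : M →ₗ[A] M'} (hg : Function.Surjective g) {p : ℕ} :
    Function.Surjective (cmap f e T g : C (locSys f M) e T p → _) := fun b => by
  have h : ∀ i, ∃ a, nmap f g (T ∪ univ.image (e ∘ i)) a = b i := fun i => by
    haveI := (locSys f M).loc (T ∪ univ.image (e ∘ i))
    haveI := (locSys f M').loc (T ∪ univ.image (e ∘ i))
    exact IsLocalizedModule.map_surjective _ _ _ g hg (b i)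
  choose a ha using h
  exact ⟨a, funext ha⟩

lemma cmap_exact {g : M →ₗ[A] M'} {g' : M' →ₗ[A] M''} (hg : Function.Exact g g') {p : ℕ} :
    Function.Exact (cmap f e T g : C (locSys f M) e T p → _) (cmap f e T g') := fun b => by
  constructor
  · intro h
    have h' : ∀ i, b i ∈ Set.range (nmap f g (T ∪ univ.image (e ∘ i))) := fun i => by
      haveI := (locSys f M).loc (T ∪ univ.image (e ∘ i))
      haveI := (locSys f M').loc (T ∪ univ.image (e ∘ i))
      haveI := (locSys f M'').loc (T ∪ univ.image (e ∘ i))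
      exact (IsLocalizedModule.map_exact (Submonoid.powers (∏ j ∈ T ∪ univ.image (e ∘ i), f j))
        ((locSys f M).η _) ((locSys f M').η _) ((locSys f M'').η _) g g' hg (b i)).1 (congrFun h i)
    choose a ha using h'
    exact ⟨a, funext ha⟩
  · rintro ⟨a, rfl⟩
    funext i
    rw [cmap_apply, cmap_apply, ← LinearMap.comp_apply, ← nmap_comp,
      show g'.comp g = 0 from LinearMap.ext fun x => hg.apply_apply_eq_zero x]
    exact LinearMap.congr_fun (map_zero (haveI := (locSys f M).loc (T ∪ univ.image (e ∘ i))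
      haveI := (locSys f M'').loc (T ∪ univ.image (e ∘ i))
      IsLocalizedModule.map (Submonoid.powers (∏ j ∈ T ∪ univ.image (e ∘ i), f j))
        ((locSys f M).η _) ((locSys f M'').η _))) _

section Vanishing

lemma IsBd.cmap {g : M →ₗ[A] M'} {p : ℕ} {s : C (locSys f M) e T p}
    (h : IsBd (locSys f M) T s) : IsBd (locSys f M') T (cmap f e T g s) := by
  cases p with
  | zero => rw [show s = 0 from h, map_zero]; exact isBd_zero _
  | succ p =>
    obtain ⟨w, rfl⟩ := h
    exact ⟨KoszulCech.cmap f e T g w, (cmap_d f e T g w).symm⟩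

end Vanishing

/-- Cocycles are boundaries when one of the elements acts bijectively. -/
theorem isBd_of_bijective {ι : Type} [DecidableEq ι] {h : ι → A} (Z : Sys A M h) {κ : Type}
    (e : κ → ι) (a : κ) (ha : Function.Bijective (fun m : M => h (e a) • m)) {p : ℕ}
    (s : C Z e ∅ p) (hs : d Z ∅ s = 0) : IsBd Z ∅ s := by
  classical
  have hbij : ∀ S : Finset ι, Function.Injective (Z.tr S (insert (e a) S)) := fun S x y hxy => by
    rw [← sub_eq_zero, ← map_sub] at hxy
    obtain ⟨k, hk⟩ := Z.exists_pow_smul_eq_zero (e a) rfl (x - y) hxy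
    haveI := Z.loc S
    have hu : Function.Injective (fun z : Z.N S => h (e a) • z) := by
      intro z w hzw
      obtain ⟨⟨m, u⟩, rfl⟩ := IsLocalizedModule.mk'_surjective
        (Submonoid.powers (∏ j ∈ S, h j)) (Z.η S) z
      obtain ⟨⟨n, v⟩, rfl⟩ := IsLocalizedModule.mk'_surjective
        (Submonoid.powers (∏ j ∈ S, h j)) (Z.η S) w
      simp only [Function.uncurry_apply_pair, ← IsLocalizedModule.mk'_smul,
        IsLocalizedModule.mk'_eq_mk'_iff] at hzw ⊢
      obtain ⟨c, hc⟩ := hzw
      refine ⟨c, ha.1 ?_⟩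
      simpa only [Submonoid.smul_def, smul_comm (h (e a))] using hc
    have hk' : ∀ k : ℕ, ∀ z : Z.N S, h (e a) ^ k • z = 0 → z = 0 := by
      intro k
      induction k with
      | zero => intro z hz; simpa using hz
      | succ k ih => intro z hz; exact hu (by
          show h (e a) • z = h (e a) • 0
          rw [smul_zero]
          exact ih _ (by rwa [smul_smul, ← pow_succ]))
    exact sub_eq_zero.1 (hk' k _ hk)
  have hsur : ∀ S : Finset ι, Function.Surjective (Z.tr S (insert (e a) S)) := fun S y => by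
    obtain ⟨k, x, hx⟩ := Z.exists_pow_smul_eq_tr (e a) (S := S) rfl y
    haveI := Z.loc S
    have hpow : ∀ k : ℕ, ∀ z : Z.N S, ∃ w, h (e a) ^ k • w = z := by
      intro k
      induction k with
      | zero => exact fun z => ⟨z, by simp⟩
      | succ k ih =>
        intro z
        obtain ⟨w, rfl⟩ := ih z
        obtain ⟨⟨m, u⟩, rfl⟩ := IsLocalizedModule.mk'_surjective
          (Submonoid.powers (∏ j ∈ S, h j)) (Z.η S) w
        obtain ⟨m', hm'⟩ := ha.2 m
        refine ⟨IsLocalizedModule.mk' (Z.η S) m' u, ?_⟩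
        simp only [Function.uncurry_apply_pair, pow_succ, mul_smul,
          ← IsLocalizedModule.mk'_smul (Z.η S) (h (e a)), hm']
    obtain ⟨w, hw⟩ := hpow k x
    refine ⟨w, ((Module.End.isUnit_iff _).1 (Z.isUnit_mem (Finset.mem_insert_self _ _) k)).1 ?_⟩
    show h (e a) ^ k • _ = h (e a) ^ k • y
    rw [Module.End.one_apply, ← map_smul, hw, hx]
  have himg : ∀ {q : ℕ} (i : Fin q → κ), (∅ : Finset ι) ∪ univ.image (e ∘ Fin.cons a i) =
      insert (e a) (∅ ∪ univ.image (e ∘ i)) := fun i => by
    ext x; simp [mem_image, Fin.exists_fin_succ, eq_comm]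
  cases p with
  | zero =>
    funext i
    refine hbij _ ?_
    have h1 := congrArg (Z.tr _ (insert (e a) (∅ ∪ univ.image (e ∘ i)))) (congrFun hs (Fin.cons a i))
    have hsub : (∅ : Finset ι) ∪ univ.image (e ∘ i) ⊆ ∅ ∪ univ.image (e ∘ Fin.cons a i) := by
      rw [himg]; exact subset_insert _ _
    rw [d, D_apply, Fin.sum_univ_one, Pi.zero_apply, map_zero, map_zsmul] at h1
    simp only [Fin.val_zero, pow_zero, one_mul, one_smul] at h1
    rw [Pi.zero_apply, map_zero, ← h1]
    have : ∀ (j : Fin 0 → κ) (hj : (∅ : Finset ι) ∪ univ.image (e ∘ j) ⊆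
        ∅ ∪ univ.image (e ∘ Fin.cons a i)),
        Z.tr (∅ ∪ univ.image (e ∘ i)) (insert (e a) (∅ ∪ univ.image (e ∘ i))) (s i) =
          Z.tr _ _ (Z.tr _ (∅ ∪ univ.image (e ∘ Fin.cons a i)) (s j)) := by
      intro j hj
      obtain rfl : j = i := funext fun z => z.elim0
      rw [Z.tr_tr hj (himg j).subset]
    exact this _ (union_subset_union_right (face_subset e _ 0))
  | succ p =>
    have hinv : ∀ i : Fin p → κ, ∃ x, Z.tr (∅ ∪ univ.image (e ∘ i))
        (insert (e a) (∅ ∪ univ.image (e ∘ i))) x = Z.tr _ _ (s (Fin.cons a i)) := fun i => hsur _ _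
    choose w hw using hinv
    refine ⟨w, funext fun i => hbij _ ?_⟩
    have hsub : ∀ {q : ℕ} (j : Fin q → κ), (∅ : Finset ι) ∪ univ.image (e ∘ j) ⊆
        ∅ ∪ univ.image (e ∘ Fin.cons a j) := fun j => by rw [himg]; exact subset_insert _ _
    have h1 := congrArg (Z.tr _ (insert (e a) (∅ ∪ univ.image (e ∘ i)))) (congrFun hs (Fin.cons a i))
    rw [d, D_apply, Pi.zero_apply, map_zero, map_sum, Fin.sum_univ_succ, map_zsmul] at h1
    simp only [Fin.val_zero, pow_zero, one_mul, mul_one, one_smul, add_eq_zero_iff_eq_neg,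
      ← Finset.sum_neg_distrib] at h1
    have hfst : ∀ (j : Fin (p + 1) → κ), j = i → ∀ (hj : (∅ : Finset ι) ∪ univ.image (e ∘ j) ⊆
        ∅ ∪ univ.image (e ∘ Fin.cons a i)),
        Z.tr _ (insert (e a) (∅ ∪ univ.image (e ∘ i))) (Z.tr _ (∅ ∪ univ.image (e ∘ Fin.cons a i)) (s j)) =
          Z.tr _ _ (s i) := by
      rintro j rfl hj
      rw [Z.tr_tr hj (himg j).subset]
    rw [hfst _ (funext fun z => by simp) (union_subset_union_right (face_subset e _ 0))] at h1
    rw [h1, d, D_apply, map_sum]
    refine Finset.sum_congr rfl fun k _ => ?_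
    rw [map_zsmul, map_zsmul, mul_one, Fin.val_succ, pow_succ, mul_neg_one, neg_smul, neg_neg]
    congr 1
    have hsucc : (Fin.cons a i : Fin (p + 2) → κ) ∘ k.succ.succAbove = Fin.cons a (i ∘ k.succAbove) := by
      funext z
      induction z using Fin.cases with
      | zero => simp
      | succ z => simp [Fin.succ_succAbove_succ]
    have hsw : ∀ (j j' : Fin (p + 1) → κ), j = j' →
        Z.tr _ (∅ ∪ univ.image (e ∘ Fin.cons a i)) (s j) =
          Z.tr _ (∅ ∪ univ.image (e ∘ Fin.cons a i)) (s j') := by rintro j j' rfl; rfl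
    have hf : (∅ : Finset ι) ∪ univ.image (e ∘ i ∘ k.succAbove) ⊆ ∅ ∪ univ.image (e ∘ i) :=
      union_subset_union_right (face_subset e i k)
    rw [hsw _ _ hsucc, Z.tr_tr hf (subset_insert _ _),
      ← Z.tr_tr (subset_insert (e a) _) (insert_subset_insert _ hf), hw (i ∘ k.succAbove),
      Z.tr_tr (himg _).subset (insert_subset_insert _ hf), Z.tr_tr ?_ (himg i).subset]
    rw [himg, himg]
    exact insert_subset_insert _ hf

/-- Positive degree cocycles are boundaries when all elements act locally nilpotently. -/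
theorem eq_zero_of_nilpotent {ι : Type} [DecidableEq ι] {h : ι → A} (Z : Sys A M h) {κ : Type}
    (e : κ → ι) (hnil : ∀ (a : κ) (m : M), ∃ n : ℕ, h (e a) ^ n • m = 0) {p : ℕ}
    (s : C Z e ∅ (p + 1)) : s = 0 := by
  funext i
  haveI := Z.loc (∅ ∪ univ.image (e ∘ i))
  obtain ⟨⟨m, u⟩, hm⟩ := IsLocalizedModule.mk'_surjective
    (Submonoid.powers (∏ j ∈ ∅ ∪ univ.image (e ∘ i), h j)) (Z.η _) (s i)
  rw [← hm]
  simp only [Function.uncurry_apply_pair, Pi.zero_apply]
  rw [IsLocalizedModule.mk'_eq_zero']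
  obtain ⟨n, hn⟩ := hnil (i 0) m
  refine ⟨⟨_, n, rfl⟩, ?_⟩
  show (∏ j ∈ ∅ ∪ univ.image (e ∘ i), h j) ^ n • m = 0
  rw [← Finset.prod_erase_mul _ _ (mem_union_right _ (mem_image.2 ⟨0, mem_univ _, rfl⟩) :
    (e ∘ i) 0 ∈ (∅ : Finset ι) ∪ univ.image (e ∘ i)), mul_pow, mul_smul]
  show _ • h (e (i 0)) ^ n • m = 0
  rw [hn, smul_zero]

/-- Injective modules over Noetherian rings have no higher cohomology. -/
theorem isBd_of_injective [IsNoetherianRing A] (e : κ → Fin r) :
    ∀ (t : Finset κ) (J : Type u) [AddCommGroup J] [Module A J], Module.Injective A J →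
      (∀ a ∉ t, ∀ m : J, ∃ n : ℕ, f (e a) ^ n • m = 0) →
      ∀ (p : ℕ) (s : C (locSys f J) e ∅ (p + 1)), d (locSys f J) ∅ s = 0 →
        IsBd (locSys f J) ∅ s := by
  classical
  intro t
  induction t using Finset.induction_on with
  | empty =>
    intro J _ _ _ hnil p s _
    rw [eq_zero_of_nilpotent (locSys f J) e (fun a m => hnil a (notMem_empty a) m) s]
    exact isBd_zero _
  | insert a t hat ih =>
    intro J _ _ hJ hnil p s hs
    let K : Submodule A J := ⨆ n : ℕ,
      Submodule.torsionBySet A J ((Ideal.span {f (e a)} ^ n : Ideal A) : Set A)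
    have hKinj : Module.Injective A K := InjHullBasic.injective_powerTorsion J _
    have hmem : ∀ x : J, x ∈ K ↔ ∃ n : ℕ, f (e a) ^ n • x = 0 := fun x => by
      rw [InjHullBasic.isPowerTorsion_iSup]
      refine exists_congr fun n => ⟨fun h => h _ (Ideal.pow_mem_pow (Ideal.mem_span_singleton_self _) n),
        fun h c hc => ?_⟩
      rw [Ideal.span_singleton_pow, Ideal.mem_span_singleton'] at hc
      obtain ⟨b, rfl⟩ := hc
      rw [mul_smul, h, smul_zero]
    obtain ⟨π, hπ⟩ := Module.Injective.extension_property A K K J K.subtype K.subtype_injective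
      LinearMap.id
    have hπ' : ∀ x : K, π x.1 = x := fun x => LinearMap.congr_fun hπ x
    let J' : Submodule A J := LinearMap.ker π
    let q : J →ₗ[A] J' := (LinearMap.id - K.subtype.comp π).codRestrict J' fun x => by
      simp [J', hπ']
    have hJ'bij : Function.Bijective (fun m : J' => f (e a) • m) := by
      refine ⟨fun x y hxy => ?_, fun y => ?_⟩
      · have hd : f (e a) • (x.1 - y.1) = 0 := by
          rw [smul_sub, sub_eq_zero]; exact congrArg Subtype.val hxy
        have hK : x.1 - y.1 ∈ K := (hmem _).2 ⟨1, by rwa [pow_one]⟩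
        have h2 := hπ' ⟨_, hK⟩
        rw [map_sub, LinearMap.mem_ker.1 x.2, LinearMap.mem_ker.1 y.2, sub_zero] at h2
        exact Subtype.ext (sub_eq_zero.1 (congrArg Subtype.val h2).symm)
      · obtain ⟨x, hx⟩ := InjHullBasic.mkLinearMap_surjective (Submonoid.powers (f (e a))) J
          (LocalizedModule.mk y.1 ⟨f (e a), 1, pow_one _⟩)
        rw [LocalizedModule.mkLinearMap_apply, LocalizedModule.mk_eq] at hx
        obtain ⟨⟨_, n, rfl⟩, hc⟩ := hx
        simp only [Submonoid.smul_def, OneMemClass.coe_one, one_smul] at hc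
        refine ⟨q x, ?_⟩
        have hK : f (e a) • x - y.1 ∈ K := (hmem _).2 ⟨n, by
          rw [smul_sub, sub_eq_zero]; exact hc⟩
        have h2 := hπ' ⟨_, hK⟩
        rw [map_sub, LinearMap.mem_ker.1 y.2, sub_zero, map_smul] at h2
        refine Subtype.ext ?_
        show f (e a) • (x - (π x).1) = y.1
        rw [smul_sub]
        have h3 := congrArg Subtype.val h2
        simp only [SetLike.val_smul] at h3
        rw [h3, sub_sub_cancel]
    have hsum : s = cmap f e ∅ K.subtype (cmap f e ∅ π s) +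
        cmap f e ∅ J'.subtype (cmap f e ∅ q s) := by
      rw [← cmap_comp, ← cmap_comp, ← cmap_add]
      conv_lhs => rw [← cmap_id f e ∅ s]
      congr 2
      refine LinearMap.ext fun x => ?_
      simp [q]
    rw [hsum]
    refine IsBd.add _ (IsBd.cmap f e ∅ (ih K hKinj (fun b hb m => ?_) p _ ?_))
      (IsBd.cmap f e ∅ (isBd_of_bijective (locSys f J') e a hJ'bij _ ?_))
    · by_cases hba : b = a
      · subst hba
        obtain ⟨n, hn⟩ := (hmem m.1).1 m.2
        exact ⟨n, Subtype.ext hn⟩
      · obtain ⟨n, hn⟩ := hnil b (by simp [hba, hb]) m.1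
        exact ⟨n, Subtype.ext hn⟩
    · rw [← cmap_d, hs, map_zero]
    · rw [← cmap_d, hs, map_zero]

/-- The tuples of all indices. -/
abbrev allIdx : Fin (List.finRange r).length → Fin r := (List.finRange r).get

theorem subsingleton_Hc_of_injective [IsNoetherianRing A] {κ : Type} [Finite κ] (e : κ → Fin r)
    (J : Type u) [AddCommGroup J] [Module A J] (hJ : Module.Injective A J) (p : ℕ) :
    Subsingleton (Hc (locSys f J) e (p + 1)) := by
  cases nonempty_fintype κ
  refine ⟨fun x y => ?_⟩
  obtain ⟨x, rfl⟩ := Submodule.mkQ_surjective _ x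
  obtain ⟨y, rfl⟩ := Submodule.mkQ_surjective _ y
  refine (Submodule.Quotient.eq _).2 ?_
  exact isBd_of_injective f e Finset.univ J hJ (fun a ha => absurd (Finset.mem_univ a) ha) p _ (x - y).2

end Groth.Agent.KoszulCech
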