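import Groth.Agent.KoszulCech.Functorial
import Groth.Agent.LocCohBasic.Derived
import Mathlib.Algebra.Homology.HomologicalComplexAbelian
import Mathlib.Algebra.Homology.HomologySequence
import Mathlib.Algebra.Homology.ShortComplex.ModuleCat

/-!
# Augmented Cech cochains compute local cohomology over Noetherian rings
-/

set_option autoImplicit false

noncomputable section

universe u

open Finset CategoryTheory Limits

namespace Groth.Agent.KoszulCech

variable {A : Type u} [CommRing A] {r : ℕ} (f : Fin r → A)

/-- The complex of augmented cochains. -/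
def cx (M : ModuleCat.{u} A) : CochainComplex (ModuleCat.{u} A) ℕ :=
  CochainComplex.of (fun p => ModuleCat.of A (C (locSys f M) (allIdx (r := r)) ∅ p))
    (fun p => ModuleCat.ofHom (d (locSys f M) ∅))
    (fun p => ModuleCat.hom_ext (LinearMap.ext fun s => d_d (locSys f M) ∅ s))

lemma cx_d (M : ModuleCat.{u} A) (p : ℕ) (s : C (locSys f M) (allIdx (r := r)) ∅ p) :
    ((cx f M).d p (p + 1)).hom s = d (locSys f M) ∅ s := by
  simp [cx, CochainComplex.of_d]
  rfl

/-- Functoriality. -/
def cxMap {M N : ModuleCat.{u} A} (g : M ⟶ N) : cx f M ⟶ cx f N :=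
  CochainComplex.ofHom (fun p => ModuleCat.ofHom (cmap f (allIdx (r := r)) ∅ g.hom)) fun p =>
    ModuleCat.hom_ext (LinearMap.ext fun s => by
      rw [ModuleCat.hom_comp, ModuleCat.hom_comp, LinearMap.comp_apply, LinearMap.comp_apply, cx_d, cx_d]
      exact (cmap_d f (allIdx (r := r)) ∅ g.hom s).symm)

/-- The functor of augmented cochains. -/
def cxF : ModuleCat.{u} A ⥤ CochainComplex (ModuleCat.{u} A) ℕ where
  obj M := cx f M
  map g := cxMap f g
  map_id M := HomologicalComplex.hom_ext _ _ fun p =>
    ModuleCat.hom_ext (LinearMap.ext fun s => cmap_id f (allIdx (r := r)) ∅ s)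
  map_comp g h := HomologicalComplex.hom_ext _ _ fun p =>
    ModuleCat.hom_ext (LinearMap.ext fun s => cmap_comp f (allIdx (r := r)) ∅ g.hom h.hom s)

instance : (cxF f).Additive where
  map_add {M N} {g h} := HomologicalComplex.hom_ext _ _ fun p =>
    ModuleCat.hom_ext (LinearMap.ext fun s => cmap_add f (allIdx (r := r)) ∅ g.hom h.hom s)

lemma cxF_shortExact {S : ShortComplex (ModuleCat.{u} A)} (hS : S.ShortExact) :
    (S.map (cxF f)).ShortExact := by
  refine HomologicalComplex.shortExact_of_degreewise_shortExact _ fun p => ?_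
  exact
    { mono_f := (ModuleCat.mono_iff_injective _).2
        (cmap_injective f (allIdx (r := r)) ∅ ((ModuleCat.mono_iff_injective _).1 hS.mono_f))
      epi_g := (ModuleCat.epi_iff_surjective _).2
        (cmap_surjective f (allIdx (r := r)) ∅ ((ModuleCat.epi_iff_surjective _).1 hS.epi_g))
      exact := (ShortComplex.ShortExact.moduleCat_exact_iff_function_exact _).2
        (cmap_exact f (allIdx (r := r)) ∅
          ((ShortComplex.ShortExact.moduleCat_exact_iff_function_exact S).1 hS.exact)) }

/-- Cohomology in degree `n`. -/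
def cechF (n : ℕ) : ModuleCat.{u} A ⥤ ModuleCat.{u} A :=
  cxF f ⋙ HomologicalComplex.homologyFunctor (ModuleCat.{u} A) (ComplexShape.up ℕ) n

instance (n : ℕ) : (cechF f n).Additive := by unfold cechF; infer_instance

section Concrete

variable (M : ModuleCat.{u} A)

lemma iCycles_injective (p : ℕ) : Function.Injective ((cx f M).iCycles p).hom :=
  (ModuleCat.mono_iff_injective _).1 inferInstance

lemma iCycles_mem (p : ℕ) (c : (cx f M).cycles p) :
    ((cx f M).iCycles p).hom c ∈ Zc (locSys f M) (allIdx (r := r)) p := by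
  show d (locSys f M) ∅ _ = 0
  rw [← cx_d, ← ModuleCat.comp_apply, HomologicalComplex.iCycles_d]
  rfl

/-- Cycles as concrete cocycles. -/
def cyclesEquiv (p : ℕ) : (cx f M).cycles p ≃ₗ[A] Zc (locSys f M) (allIdx (r := r)) p :=
  LinearEquiv.ofBijective (LinearMap.codRestrict _ ((cx f M).iCycles p).hom (iCycles_mem f M p))
    ⟨fun a b h => iCycles_injective f M p (congrArg Subtype.val h), fun s => by
      refine ⟨(cx f M).cyclesMk s.1 (p + 1) (by simp) ((cx_d f M p s.1).trans s.2),
        Subtype.ext ?_⟩
      exact (cx f M).i_cyclesMk _ _ _ _⟩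

/-- The homology of the complex of cochains. -/
theorem nonempty_homology_equiv (p : ℕ) :
    Nonempty ((cx f M).homology p ≃ₗ[A] Hc (locSys f M) (allIdx (r := r)) p) := by
  let g : (cx f M).cycles p →ₗ[A] Hc (locSys f M) (allIdx (r := r)) p :=
    (Bc (locSys f M) (allIdx (r := r)) p).mkQ.comp (cyclesEquiv f M p).toLinearMap
  have hπ : Function.Surjective ((cx f M).homologyπ p).hom :=
    (ModuleCat.epi_iff_surjective _).1 inferInstance
  have hker : LinearMap.ker ((cx f M).homologyπ p).hom = LinearMap.ker g := by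
    refine le_antisymm (fun c hc => ?_) (fun c hc => ?_)
    · cases p with
      | zero =>
        have hiso : IsIso ((cx f M).homologyπ 0) := inferInstance
        have h0 : c = 0 := ((ConcreteCategory.isIso_iff_bijective _).1 hiso).1
          ((LinearMap.mem_ker.1 hc).trans (map_zero _).symm)
        rw [h0]
        exact zero_mem _
      | succ q =>
        obtain ⟨w, hw⟩ := ((ShortComplex.moduleCat_exact_iff _).1
          (ShortComplex.exact_of_g_is_cokernel (ShortComplex.mk _ _ ((cx f M).toCycles_comp_homologyπ q (q + 1)))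
            ((cx f M).homologyIsCokernel q (q + 1) (by simp)))) c (LinearMap.mem_ker.1 hc)
        refine (Submodule.Quotient.mk_eq_zero _).2 ⟨w, ?_⟩
        show _ = ((cx f M).iCycles (q + 1)).hom c
        rw [← hw, ← cx_d]
        exact (ConcreteCategory.congr_hom ((cx f M).toCycles_i q (q + 1)) w).symm
    · have hb : IsBd (locSys f M) ∅ ((cx f M).iCycles p c) :=
        (Submodule.Quotient.mk_eq_zero _).1 (LinearMap.mem_ker.1 hc)
      cases p with
      | zero =>
        have h0 : c = 0 := iCycles_injective f M 0 (Eq.trans hb (map_zero _).symm)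
        rw [h0]
        exact zero_mem _
      | succ q =>
        obtain ⟨w, hw⟩ := hb
        have : ((cx f M).toCycles q (q + 1)).hom w = c := iCycles_injective f M _ (by
          rw [← ModuleCat.comp_apply, HomologicalComplex.toCycles_i, cx_d]
          exact hw)
        rw [LinearMap.mem_ker, ← this, ← ModuleCat.comp_apply,
          HomologicalComplex.toCycles_comp_homologyπ]
        rfl
  have hg : Function.Surjective g :=
    (Submodule.mkQ_surjective _).comp (cyclesEquiv f M p).surjective
  exact ⟨((((cx f M).homologyπ p).hom.quotKerEquivOfSurjective hπ).symm.trans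
    (Submodule.quotEquivOfEq _ _ hker)).trans (g.quotKerEquivOfSurjective hg)⟩

lemma image_elim0 (i : Fin 0 → Fin (List.finRange r).length) :
    (∅ : Finset (Fin r)) ∪ univ.image (allIdx ∘ i) = ∅ := by simp

/-- Degree zero cochains are the module. -/
def zeroC : M →ₗ[A] C (locSys f M) (allIdx (r := r)) ∅ 0 :=
  LinearMap.pi fun _ => (locSys f M).η _

lemma zeroC_bijective : Function.Bijective (zeroC f M) := by
  refine ⟨fun a b h => (η_empty_bijective (locSys f M) (image_elim0 Fin.elim0)).1 (congrFun h Fin.elim0),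
    fun s => ?_⟩
  obtain ⟨m, hm⟩ := (η_empty_bijective (locSys f M) (image_elim0 Fin.elim0)).2 (s Fin.elim0)
  refine ⟨m, funext fun i => ?_⟩
  obtain rfl : i = Fin.elim0 := funext fun a => a.elim0
  exact hm

lemma d_zeroC_eq_zero_iff (m : M) :
    d (locSys f M) ∅ (zeroC f M m) = 0 ↔ ∀ a : Fin r, ∃ n : ℕ, f a ^ n • m = 0 := by
  have key : ∀ i : Fin 1 → Fin (List.finRange r).length,
      d (locSys f M) ∅ (zeroC f M m) i = (locSys f M).η _ m := fun i => by
    rw [d, D_apply, Fin.sum_univ_one]
    simp only [Fin.val_zero, pow_zero, one_mul, one_smul]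
    exact (locSys f M).tr_η (union_subset_union_right (face_subset _ i 0)) m
  have himg : ∀ i : Fin 1 → Fin (List.finRange r).length,
      (∅ : Finset (Fin r)) ∪ univ.image (allIdx ∘ i) = {allIdx (i 0)} := fun i => by
    rw [empty_union]
    ext x
    simp [Fin.exists_fin_one, eq_comm]
  constructor
  · intro h a
    obtain ⟨j, rfl⟩ := List.get_of_mem (List.mem_finRange a)
    have h1 := congrFun h (fun _ => j)
    rw [key, Pi.zero_apply] at h1
    haveI := (locSys f M).loc (∅ ∪ univ.image (allIdx ∘ fun _ : Fin 1 => j))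
    obtain ⟨⟨_, n, rfl⟩, hn⟩ := (IsLocalizedModule.eq_zero_iff
      (Submonoid.powers (∏ x ∈ ∅ ∪ univ.image (allIdx ∘ fun _ : Fin 1 => j), f x)) _).1 h1
    refine ⟨n, ?_⟩
    have : (∏ x ∈ ∅ ∪ univ.image (allIdx ∘ fun _ : Fin 1 => j), f x) = f ((List.finRange r).get j) := by
      rw [himg, Finset.prod_singleton]
    rw [← this]
    exact hn
  · intro h
    funext i
    rw [key, Pi.zero_apply]
    haveI := (locSys f M).loc (∅ ∪ univ.image (allIdx ∘ i))
    obtain ⟨n, hn⟩ := h (allIdx (i 0))
    refine (IsLocalizedModule.eq_zero_iff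
      (Submonoid.powers (∏ x ∈ ∅ ∪ univ.image (allIdx ∘ i), f x)) _).2 ⟨⟨_, n, rfl⟩, ?_⟩
    show (∏ x ∈ ∅ ∪ univ.image (allIdx ∘ i), f x) ^ n • m = 0
    rw [himg, Finset.prod_singleton]
    exact hn

lemma mem_torsionSub_iff (m : M) :
    m ∈ DRing.torsionSub (Ideal.span (Set.range f)) M ↔ ∀ a : Fin r, ∃ n : ℕ, f a ^ n • m = 0 := by
  constructor
  · rintro ⟨n, hn⟩ a
    exact ⟨n, hn _ (Ideal.pow_mem_pow (Ideal.subset_span (Set.mem_range_self a)) n)⟩
  · intro h
    choose n hn using h
    let J : Ideal A := LinearMap.ker (LinearMap.toSpanSingleton A M m)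
    have hrad : Ideal.span (Set.range f) ≤ J.radical := by
      rw [Ideal.span_le]
      rintro _ ⟨a, rfl⟩
      exact ⟨n a, hn a⟩
    obtain ⟨N, hN⟩ := Ideal.exists_pow_le_of_le_radical_of_fg hrad
      (Submodule.fg_span (Set.finite_range f))
    exact ⟨N, fun a ha => hN ha⟩

/-- Torsion elements are cycles of degree zero. -/
def torToCycles : DRing.torsionSub (Ideal.span (Set.range f)) M →ₗ[A] (cx f M).cycles 0 :=
  (cyclesEquiv f M 0).symm.toLinearMap.comp (LinearMap.codRestrict _
    ((zeroC f M).comp (Submodule.subtype _)) fun x =>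
      (d_zeroC_eq_zero_iff f M x.1).2 ((mem_torsionSub_iff f M x.1).1 x.2))

lemma iCycles_torToCycles (x : DRing.torsionSub (Ideal.span (Set.range f)) M) :
    ((cx f M).iCycles 0).hom (torToCycles f M x) = zeroC f M x.1 := by
  have h := congrArg Subtype.val ((cyclesEquiv f M 0).apply_symm_apply
    ⟨zeroC f M x.1, (d_zeroC_eq_zero_iff f M x.1).2 ((mem_torsionSub_iff f M x.1).1 x.2)⟩)
  exact h

lemma torToCycles_bijective : Function.Bijective (torToCycles f M) := by
  refine ⟨fun a b h => ?_, fun c => ?_⟩
  · have h' := congrArg ((cx f M).iCycles 0).hom h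
    rw [iCycles_torToCycles, iCycles_torToCycles] at h'
    exact Subtype.ext ((zeroC_bijective f M).1 h')
  · obtain ⟨m, hm⟩ := (zeroC_bijective f M).2 (((cx f M).iCycles 0).hom c)
    refine ⟨⟨m, (mem_torsionSub_iff f M m).2 ((d_zeroC_eq_zero_iff f M m).1 ?_)⟩, ?_⟩
    · rw [hm]; exact iCycles_mem f M 0 c
    · exact iCycles_injective f M 0 ((iCycles_torToCycles f M _).trans hm)

end Concrete

/-- Degree zero is torsion. -/
def zeroIso : DRing.gammaI (Ideal.span (Set.range f)) ≅ cechF f 0 :=
  NatIso.ofComponents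
    (fun M => (LinearEquiv.ofBijective (torToCycles f M) (torToCycles_bijective f M)).toModuleIso ≪≫
      CochainComplex.isoHomologyπ₀ (cx f M))
    (fun {M N} g => by
      refine ModuleCat.hom_ext (LinearMap.ext fun x => ?_)
      show ((cx f N).homologyπ 0).hom (torToCycles f N _) =
        (HomologicalComplex.homologyMap (cxMap f g) 0).hom (((cx f M).homologyπ 0).hom (torToCycles f M x))
      rw [← ModuleCat.comp_apply ((cx f M).homologyπ 0), HomologicalComplex.homologyπ_naturality,
        ModuleCat.comp_apply]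
      congr 1
      refine iCycles_injective f N 0 ?_
      rw [iCycles_torToCycles, ← ModuleCat.comp_apply, HomologicalComplex.cyclesMap_i,
        ModuleCat.comp_apply, iCycles_torToCycles]
      funext i
      exact (nmap_η f g.hom _ x.1).symm)

/-- Cech cohomology as a δ-functor. -/
def cechDelta [IsNoetherianRing A] : UnivDelta.DeltaFunctor (ModuleCat.{u} A) (ModuleCat.{u} A) where
  F n := cechF f n
  additive n := inferInstance
  δ hS n := (cxF_shortExact f hS).δ n (n + 1) (by simp)
  mono₁ {S} hS := by
    have hi := (ModuleCat.mono_iff_injective _).1 hS.mono_f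
    refine (ModuleCat.mono_iff_injective _).2 ?_
    intro x y hxy
    obtain ⟨a, rfl⟩ := ((zeroIso f).app S.X₁).toLinearEquiv.surjective x
    obtain ⟨b, rfl⟩ := ((zeroIso f).app S.X₁).toLinearEquiv.surjective y
    have hnat := ConcreteCategory.congr_hom ((zeroIso f).hom.naturality S.f)
    have hab := ((zeroIso f).app S.X₂).toLinearEquiv.injective
      ((hnat a).trans (hxy.trans (hnat b).symm))
    exact congrArg _ (Subtype.ext (hi (congrArg Subtype.val hab)))
  exact₂ {S} hS n w := (cxF_shortExact f hS).homology_exact₂ n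
  map_g_δ {S} hS n := (cxF_shortExact f hS).comp_δ n (n + 1) (by simp)
  exact₃ {S} hS n := (cxF_shortExact f hS).homology_exact₃ n (n + 1) (by simp)
  δ_map_f {S} hS n := (cxF_shortExact f hS).δ_comp n (n + 1) (by simp)
  exact₁ {S} hS n := (cxF_shortExact f hS).homology_exact₁ n (n + 1) (by simp)
  δ_nat {S S'} hS hS' φ n := (HomologicalComplex.HomologySequence.δ_naturality
    ((cxF f).mapShortComplex.map φ) (cxF_shortExact f hS) (cxF_shortExact f hS') n (n + 1) (by simp)).symm
  isZero J _ n := by
    obtain ⟨e⟩ := nonempty_homology_equiv f J (n + 1)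
    haveI := subsingleton_Hc_of_injective f (allIdx (r := r)) J
      (Module.injective_module_of_injective_object A J) n
    exact @ModuleCat.isZero_of_subsingleton _ _ ((cechF f (n + 1)).obj J) e.toEquiv.subsingleton

/-- Local cohomology is Cech cohomology. -/
theorem nonempty_localCohomology_iso [IsNoetherianRing A] (i : ℕ) :
    Nonempty (localCohomology (Ideal.span (Set.range f)) i ≅ cechF f i) := by
  obtain ⟨a⟩ := LocCohBasic.nonempty_iso_rightDerived_gammaI (Ideal.span (Set.range f)) i
  obtain ⟨b⟩ := UnivDelta.nonempty_iso_rightDerived (cechDelta f) i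
  exact ⟨a ≪≫ LocCohBasic.rightDerivedIso (zeroIso f) i ≪≫ b.symm⟩

/-- Local cohomology is the limit of Koszul cohomology. -/
theorem nonempty_H_equiv_koszulHLim [IsNoetherianRing A] (M : Type u) [AddCommGroup M] [Module A M]
    (i : ℕ) : Nonempty (LocCoh.H (Ideal.span (Set.range f)) i M ≃ₗ[A]
      CohIII.koszulHLim ((List.finRange r).map f) (ModuleCat.of A M) i) := by
  obtain ⟨a⟩ := nonempty_localCohomology_iso f i
  obtain ⟨b⟩ := nonempty_homology_equiv f (ModuleCat.of A M) i
  obtain ⟨c⟩ := nonempty_koszulHLim_equiv (locSys f M) (List.finRange r) i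
  exact ⟨((a.app (ModuleCat.of A M)).toLinearEquiv.trans b).trans c.symm⟩

end Groth.Agent.KoszulCech
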