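import Groth.Agent.KoszulCech.Step
import Groth.Prelude.Def_ega3
import Mathlib.Algebra.Homology.ConcreteCategory
import Mathlib.Algebra.Category.ModuleCat.FilteredColimits

/-!
# The limit of Koszul cohomology is the cohomology of the augmented Cech cochains
-/

set_option autoImplicit false

noncomputable section

universe u

open Finset CategoryTheory Limits CochainComplex

namespace Groth.Agent.KoszulCech

variable {A : Type u} [CommRing A] {M : Type u} [AddCommGroup M] [Module A M]
  {ι : Type} [DecidableEq ι] {f : ι → A} (Z : Sys A M f)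

lemma image_empty (T : Finset ι) {p : ℕ} (hp : p = 0) (e : Fin 0 → ι) (i : Fin p → Fin 0) :
    T ∪ univ.image (e ∘ i) = T := by
  subst hp
  simp

/-- The complexes for the empty family. -/
abbrev nilK (M : Type u) [AddCommGroup M] [Module A M] : CochainComplex (ModuleCat.{u} A) ℤ :=
  (HomologicalComplex.single (ModuleCat.{u} A) (ComplexShape.up ℤ) 0).obj (ModuleCat.of A M)

/-- The map for the empty family. -/
def nilφ (e : Fin 0 → ι) (k : ℤ) : ∀ p : ℕ, k + (0 : ℕ) = p → ((nilK (A := A) M).X k →ₗ[A] C Z e ∅ p)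
  | 0, hk =>
    LinearMap.pi fun i => (Z.η _).comp
      (HomologicalComplex.singleObjXIsoOfEq (ComplexShape.up ℤ) 0 (ModuleCat.of A M) k
        (by omega)).hom.hom
  | _ + 1, _ => 0

lemma nil_subsingleton {k : ℤ} (hk : k ≠ 0) : Subsingleton ((nilK (A := A) M).X k) :=
  ModuleCat.subsingleton_of_isZero
    (HomologicalComplex.isZero_single_obj_X (ComplexShape.up ℤ) 0 (ModuleCat.of A M) k hk)

lemma C_subsingleton (e : Fin 0 → ι) (T : Finset ι) (p : ℕ) : Subsingleton (C Z e T (p + 1)) :=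
  ⟨fun a b => funext fun i => (i 0).elim0⟩

lemma η_empty_bijective {S : Finset ι} (hS : S = ∅) : Function.Bijective (Z.η S) := by
  haveI := Z.loc S
  subst hS
  refine ⟨fun x y h => ?_, fun y => ?_⟩
  · obtain ⟨⟨_, n, rfl⟩, hn⟩ := (IsLocalizedModule.eq_iff_exists
      (Submonoid.powers (∏ j ∈ (∅ : Finset ι), f j)) (Z.η ∅)).1 h
    have hn' : (∏ j ∈ (∅ : Finset ι), f j) ^ n • x = (∏ j ∈ (∅ : Finset ι), f j) ^ n • y := hn
    simpa using hn'
  · obtain ⟨⟨m, ⟨_, n, rfl⟩⟩, hn⟩ := IsLocalizedModule.surj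
      (Submonoid.powers (∏ j ∈ (∅ : Finset ι), f j)) (Z.η ∅) y
    have hn' : (∏ j ∈ (∅ : Finset ι), f j) ^ n • y = Z.η ∅ m := hn
    exact ⟨m, by simpa using hn'.symm⟩

/-- The empty family. -/
def nilCmp (e : Fin 0 → ι) : Cmp Z e where
  K _ := nilK (A := A) M
  t _ _ _ := 𝟙 _
  t_comp _ _ := Category.id_comp _
  σ := 1
  σ_sq := one_mul 1
  φ _ k p hk := nilφ Z e k p hk
  φ_t _ _ _ _ _ := rfl
  low _ k hk := nil_subsingleton (by omega)
  comm n k k' p hk hk' x := by
    haveI := C_subsingleton Z e ∅ p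
    exact Subsingleton.elim _ _
  surj k k' p hk hkk s _ := by
    cases p with
    | zero =>
      haveI : Subsingleton ((nilK (A := A) M).X k') := nil_subsingleton (by omega)
      obtain ⟨m, hm⟩ := (η_empty_bijective Z (image_empty ∅ rfl e Fin.elim0)).2 (s Fin.elim0)
      let E := HomologicalComplex.singleObjXIsoOfEq (ComplexShape.up ℤ) 0 (ModuleCat.of A M) k
        (by omega)
      refine ⟨0, E.inv.hom m, Subsingleton.elim _ _, ?_⟩
      show _ = 0
      funext i
      obtain rfl : i = Fin.elim0 := funext fun a => a.elim0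
      show Z.η _ (E.hom.hom (E.inv.hom m)) - s Fin.elim0 = 0
      rw [← ModuleCat.comp_apply, E.inv_hom_id]
      exact sub_eq_zero.2 hm
    | succ p =>
      haveI := C_subsingleton Z e ∅ p
      refine ⟨0, 0, map_zero _, ?_⟩
      rw [Subsingleton.elim (_ - s) 0]
      exact isBd_zero Z
  inj n j k k' p hk hjk hkk x hx hBd := by
    refine ⟨n, le_rfl, 0, ?_⟩
    rw [map_zero]
    show 0 = x
    cases p with
    | succ p =>
      haveI : Subsingleton ((nilK (A := A) M).X k) := nil_subsingleton (by omega)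
      exact Subsingleton.elim _ _
    | zero =>
      have h := congrFun (show nilφ Z e k 0 hk x = 0 from hBd) Fin.elim0
      let E := HomologicalComplex.singleObjXIsoOfEq (ComplexShape.up ℤ) 0 (ModuleCat.of A M) k
        (by omega)
      have h' : E.hom.hom x = 0 :=
        (η_empty_bijective Z (image_empty ∅ rfl e Fin.elim0)).1 (h.trans (map_zero _).symm)
      have := congrArg E.inv.hom h'
      rw [← ModuleCat.comp_apply, E.hom_inv_id, map_zero] at this
      exact this.symm

/-- Systems of complexes with transition maps. -/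
abbrev Tower (A : Type u) [CommRing A] :=
  Σ K : ℕ → CochainComplex (ModuleCat.{u} A) ℤ, ∀ n m : ℕ, n ≤ m → (K n ⟶ K m)

variable (M) in
/-- The Koszul tower. -/
abbrev koszulTower (fs : List A) : Tower A :=
  ⟨fun n => CohIII.koszulCx (ModuleCat.of A M) (fs.map (· ^ n)),
    fun n m h => CohIII.koszulTrans (ModuleCat.of A M) n m h fs⟩

theorem exists_cmp : ∀ l : List ι, ∃ P : Cmp Z l.get,
    (⟨P.K, P.t⟩ : Tower A) = koszulTower M (l.map f)
  | [] => ⟨nilCmp Z _, rfl⟩
  | a :: l => by
    obtain ⟨P, hP⟩ := exists_cmp l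
    obtain ⟨K, t, tc, σ, σ2, φ, φt, low, cm, su, ij⟩ := P
    simp only [koszulTower, Sigma.mk.inj_iff] at hP
    obtain ⟨rfl, ht⟩ := hP
    obtain rfl := eq_of_heq ht
    exact ⟨Cmp.step (e' := (a :: l).get) ⟨_, _, tc, σ, σ2, φ, φt, low, cm, su, ij⟩, rfl⟩

section Quotient

variable {κ : Type} (e : κ → ι)

/-- Cocycles. -/
def Zc (p : ℕ) : Submodule A (C Z e ∅ p) := LinearMap.ker (d Z ∅)

/-- Boundaries among cocycles. -/
def Bc (p : ℕ) : Submodule A (Zc Z e p) where
  carrier := {s | IsBd Z ∅ s.1}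
  add_mem' ha hb := IsBd.add Z ha hb
  zero_mem' := isBd_zero Z
  smul_mem' a _ hs := IsBd.smul Z hs a

/-- Cohomology of the augmented cochains. -/
abbrev Hc (p : ℕ) : Type u := Zc Z e p ⧸ Bc Z e p

end Quotient

namespace Cmp

variable {Z} {r : ℕ} {e : Fin r → ι} (P : Cmp Z e)

lemma d_φ_eq_zero (n : ℕ) (k : ℤ) (p : ℕ) (hk : k + r = p) (c : (P.K n).cycles k) :
    P.φ n k p hk (((P.K n).iCycles k).hom c) ∈ Zc Z e p := by
  show d Z ∅ _ = 0
  rw [P.comm n k (k + 1) p hk (by omega), ← ModuleCat.comp_apply, HomologicalComplex.iCycles_d]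
  simp

/-- On cycles. -/
def cyclesTo (n : ℕ) (k : ℤ) (p : ℕ) (hk : k + r = p) : (P.K n).cycles k ⟶ ModuleCat.of A (Hc Z e p) :=
  ModuleCat.ofHom ((Bc Z e p).mkQ.comp (LinearMap.codRestrict (Zc Z e p)
    ((P.φ n k p hk).comp ((P.K n).iCycles k).hom) (P.d_φ_eq_zero n k p hk)))

lemma toCycles_cyclesTo (n : ℕ) (j k : ℤ) (p : ℕ) (hk : k + r = p) (hjk : j + 1 = k) :
    (P.K n).toCycles j k ≫ P.cyclesTo n k p hk = 0 := by
  refine ModuleCat.hom_ext (LinearMap.ext fun w => ?_)
  refine (Submodule.Quotient.mk_eq_zero _).2 ?_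
  show IsBd Z ∅ (P.φ n k p hk (((P.K n).iCycles k).hom (((P.K n).toCycles j k).hom w)))
  rw [← ModuleCat.comp_apply, HomologicalComplex.toCycles_i]
  cases p with
  | zero =>
    haveI := P.low n j (by omega)
    rw [Subsingleton.elim w 0, map_zero, map_zero]
    exact isBd_zero Z
  | succ q =>
    refine ⟨P.σ • P.φ n j q (by omega) w, ?_⟩
    rw [map_zsmul, P.comm n j k q (by omega) hk, smul_smul, P.σ_sq, one_smul]

/-- On homology. -/
def homologyTo (n : ℕ) (k : ℤ) (p : ℕ) (hk : k + r = p) :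
    (P.K n).homology k ⟶ ModuleCat.of A (Hc Z e p) :=
  ((P.K n).homologyIsCokernel (k - 1) k (by simp)).desc
    (CokernelCofork.ofπ (P.cyclesTo n k p hk) (P.toCycles_cyclesTo n (k - 1) k p hk (by omega)))

lemma homologyTo_π (n : ℕ) (k : ℤ) (p : ℕ) (hk : k + r = p) (c : (P.K n).cycles k) :
    (P.homologyTo n k p hk).hom (((P.K n).homologyπ k).hom c) = (P.cyclesTo n k p hk).hom c :=
  ConcreteCategory.congr_hom
    (((P.K n).homologyIsCokernel (k - 1) k (by simp)).fac (CokernelCofork.ofπ (P.cyclesTo n k p hk)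
      (P.toCycles_cyclesTo n (k - 1) k p hk (by omega))) WalkingParallelPair.one) c

lemma π_surjective (n : ℕ) (k : ℤ) : Function.Surjective ((P.K n).homologyπ k).hom :=
  (ModuleCat.epi_iff_surjective _).1 inferInstance

lemma homologyTo_map {n m : ℕ} (h : n ≤ m) (k : ℤ) (p : ℕ) (hk : k + r = p) (x : (P.K n).homology k) :
    (P.homologyTo m k p hk).hom ((HomologicalComplex.homologyMap (P.t n m h) k).hom x) =
      (P.homologyTo n k p hk).hom x := by
  obtain ⟨c, rfl⟩ := P.π_surjective n k x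
  rw [← ModuleCat.comp_apply ((P.K n).homologyπ k), HomologicalComplex.homologyπ_naturality,
    ModuleCat.comp_apply, homologyTo_π, homologyTo_π]
  show (Bc Z e p).mkQ _ = (Bc Z e p).mkQ _
  congr 1
  refine Subtype.ext ?_
  show P.φ m k p hk (((P.K m).iCycles k).hom ((HomologicalComplex.cyclesMap (P.t n m h) k).hom c)) = _
  rw [← ModuleCat.comp_apply, HomologicalComplex.cyclesMap_i, ModuleCat.comp_apply, P.φ_t]
  rfl

/-- The system computes the cohomology of the cochains. -/
theorem nonempty_equiv (k : ℤ) (p : ℕ) (hk : k + r = p) :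
    Nonempty (Module.DirectLimit (fun n : ℕ => ((P.K n).homology k : Type u))
      (fun n m h => (HomologicalComplex.homologyMap (P.t n m h) k).hom) ≃ₗ[A] Hc Z e p) := by
  classical
  let F := Module.DirectLimit.lift A ℕ (fun n : ℕ => ((P.K n).homology k : Type u))
    (fun n m h => (HomologicalComplex.homologyMap (P.t n m h) k).hom)
    (fun n => (P.homologyTo n k p hk).hom) (fun n m h x => P.homologyTo_map h k p hk x)
  refine ⟨LinearEquiv.ofBijective F ⟨?_, ?_⟩⟩
  · rw [injective_iff_map_eq_zero]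
    intro z hz
    obtain ⟨n, x, rfl⟩ := Module.DirectLimit.exists_of z
    simp only [F, Module.DirectLimit.lift_of] at hz
    obtain ⟨c, rfl⟩ := P.π_surjective n k x
    rw [homologyTo_π] at hz
    have hBd : IsBd Z ∅ (P.φ n k p hk (((P.K n).iCycles k).hom c)) :=
      (Submodule.Quotient.mk_eq_zero _).1 hz
    obtain ⟨m, hm, w, hw⟩ := P.inj n (k - 1) k (k + 1) p hk (by omega) rfl _
      (by rw [← ModuleCat.comp_apply, HomologicalComplex.iCycles_d]; simp) hBd
    rw [← Module.DirectLimit.of_f (hij := hm), ← ModuleCat.comp_apply ((P.K n).homologyπ k),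
      HomologicalComplex.homologyπ_naturality, ModuleCat.comp_apply]
    have hcyc : (HomologicalComplex.cyclesMap (P.t n m hm) k).hom c =
        ((P.K m).toCycles (k - 1) k).hom w := by
      refine (ModuleCat.mono_iff_injective ((P.K m).iCycles k)).1 inferInstance ?_
      rw [← ModuleCat.comp_apply, HomologicalComplex.cyclesMap_i, ← ModuleCat.comp_apply,
        HomologicalComplex.toCycles_i]
      exact hw.symm
    rw [hcyc, ← ModuleCat.comp_apply, HomologicalComplex.toCycles_comp_homologyπ]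
    simp
  · intro y
    obtain ⟨⟨s, hs⟩, rfl⟩ := Submodule.mkQ_surjective _ y
    obtain ⟨n, x, hx, hxs⟩ := P.surj k (k + 1) p hk rfl s hs
    let c : (P.K n).cycles k := (P.K n).cyclesMk x (k + 1) (by simp) hx
    refine ⟨Module.DirectLimit.of A ℕ (fun n : ℕ => ((P.K n).homology k : Type u)) _ n
      (((P.K n).homologyπ k).hom c), ?_⟩
    simp only [F, Module.DirectLimit.lift_of]
    refine (P.homologyTo_π n k p hk c).trans ?_
    refine (Submodule.Quotient.eq _).2 ?_
    show IsBd Z ∅ (P.φ n k p hk (((P.K n).iCycles k).hom c) - s)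
    have hi : ((P.K n).iCycles k).hom c = x := (P.K n).i_cyclesMk x (k + 1) (by simp) hx
    rw [hi]
    exact hxs

end Cmp

/-- The limit of Koszul cohomology. -/
theorem nonempty_koszulHLim_equiv (l : List ι) (p : ℕ) :
    Nonempty (CohIII.koszulHLim (l.map f) (ModuleCat.of A M) p ≃ₗ[A] Hc Z l.get p) := by
  obtain ⟨P, hP⟩ := exists_cmp Z l
  obtain ⟨K, t, tc, σ, σ2, φ, φt, low, cm, su, ij⟩ := P
  simp only [koszulTower, Sigma.mk.inj_iff] at hP
  obtain ⟨rfl, ht⟩ := hP
  obtain rfl := eq_of_heq ht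
  have h := Cmp.nonempty_equiv (Z := Z) (e := l.get) ⟨_, _, tc, σ, σ2, φ, φt, low, cm, su, ij⟩
    ((p : ℤ) - (l.map f).length) p (by simp [List.length_map])
  exact h

end Groth.Agent.KoszulCech
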