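import Groth.Agent.KoszulCech.Main
import Groth.Agent.QCohBase.Qcqs
import Groth.Agent.QCohBase.CechIso
import Groth.Agent.CechLinear.Basic
import Mathlib.AlgebraicGeometry.Morphisms.Separated
import Mathlib.Data.List.FinRange

/-!
# Koszul cohomology of sections and Cech cohomology of basic opens
-/

set_option autoImplicit false
set_option backward.isDefEq.respectTransparency false
set_option backward.isDefEq.respectTransparency.types false

noncomputable section

universe u

open Finset CategoryTheory Limits AlgebraicGeometry Opposite TopologicalSpace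
open Groth.Agent.QCohBase

namespace Groth.Agent.KoszulCech

variable {X : Scheme.{u}} {r : ℕ} (f : Fin r → Γ(X, ⊤)) (F : X.Modules)

/-- Basic open of a subfamily. -/
abbrev bo (S : Finset (Fin r)) : X.Opens := X.basicOpen (∏ j ∈ S, f j)

lemma bo_le {S T : Finset (Fin r)} (h : S ⊆ T) : bo f T ≤ bo f S := by
  rw [bo, bo, ← Finset.prod_sdiff h, Scheme.basicOpen_mul]
  exact inf_le_right

lemma bo_empty : bo f (∅ : Finset (Fin r)) = ⊤ := by
  rw [bo, Finset.prod_empty]
  exact Scheme.basicOpen_of_isUnit X isUnit_one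

lemma bo_insert (a : Fin r) (S : Finset (Fin r)) : bo f (insert a S) = X.basicOpen (f a) ⊓ bo f S := by
  by_cases h : a ∈ S
  · rw [Finset.insert_eq_of_mem h]
    refine (inf_eq_right.2 ?_).symm
    exact (bo_le f (Finset.singleton_subset_iff.2 h)).trans (by rw [bo, Finset.prod_singleton])
  · rw [bo, bo, Finset.prod_insert h, Scheme.basicOpen_mul]

lemma bo_image {p : ℕ} (i : Fin p → Fin r) :
    bo f (univ.image i) = ⨅ a, X.basicOpen (f (i a)) := by
  induction p with
  | zero => rw [show univ.image i = (∅ : Finset (Fin r)) by simp, bo_empty, iInf_of_empty]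
  | succ p ih =>
    have : univ.image i = insert (i 0) (univ.image (fun a : Fin p => i a.succ)) := by
      ext x; simp [mem_image, Fin.exists_fin_succ, eq_comm]
    rw [this, bo_insert, ih]
    exact le_antisymm (le_iInf (Fin.cases inf_le_left fun a => inf_le_right.trans (iInf_le _ a)))
      (le_inf (iInf_le _ 0) (le_iInf fun a => iInf_le (fun b => X.basicOpen (f (i b))) a.succ))

/-- Sections over a basic open over the global functions. -/
@[reducible] def secModule (V : X.Opens) : Module Γ(X, ⊤) Γ(F, V) :=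
  Module.compHom _ (ores (le_top : V ≤ ⊤))

/-- The sections as an object. -/
def secObj (S : Finset (Fin r)) : ModuleCat.{u} Γ(X, ⊤) :=
  letI := secModule F (bo f S)
  ModuleCat.of Γ(X, ⊤) Γ(F, bo f S)

/-- The underlying section. -/
def val {S : Finset (Fin r)} : secObj f F S ≃+ Γ(F, bo f S) := AddEquiv.refl _

lemma val_smul {S : Finset (Fin r)} (a : Γ(X, ⊤)) (x : secObj f F S) :
    val f F (a • x) = ores (le_top : bo f S ≤ ⊤) a • val f F x := rfl

/-- Restriction from the top. -/
def topMap (S : Finset (Fin r)) : F.val.obj (op ⊤) →ₗ[Γ(X, ⊤)] secObj f F S where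
  toFun m := (val f F).symm (mres F (le_top : bo f S ≤ ⊤) m)
  map_add' a b := by rw [map_add, map_add]
  map_smul' a m := (congrArg (val f F).symm (mres_smul F (le_top : bo f S ≤ ⊤) a m)).trans
    ((val f F).injective (by rw [RingHom.id_apply, val_smul, AddEquiv.apply_symm_apply,
      AddEquiv.apply_symm_apply]))

variable [CompactSpace X] [QuasiSeparatedSpace X] [F.IsQuasicoherent]

lemma isLocalizedModule_topMap (S : Finset (Fin r)) :
    IsLocalizedModule (Submonoid.powers (∏ j ∈ S, f j)) (topMap f F S) := by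
  have hV : IsCompact ((⊤ : X.Opens) : Set X) := by simpa using isCompact_univ (X := X)
  have hV' : IsQuasiSeparated ((⊤ : X.Opens) : Set X) := by
    simpa using isQuasiSeparated_univ (α := X)
  refine ⟨fun x => ?_, fun y => ?_, fun {m₁ m₂} h => ?_⟩
  · obtain ⟨_, n, rfl⟩ := x
    rw [Module.End.isUnit_iff]
    have hu : IsUnit (ores (le_top : bo f S ≤ ⊤) ((∏ j ∈ S, f j) ^ n)) := by
      rw [map_pow]
      exact (RingedSpace.isUnit_res_basicOpen X.toRingedSpace (∏ j ∈ S, f j)).pow n
    obtain ⟨v, hv⟩ := hu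
    refine ⟨fun a b hab => ?_, fun c => ⟨(val f F).symm (v⁻¹.val • val f F c), ?_⟩⟩
    · apply (val f F).injective
      have h1 : val f F ((∏ j ∈ S, f j) ^ n • a) = val f F ((∏ j ∈ S, f j) ^ n • b) :=
        congrArg (val f F) hab
      rw [val_smul, val_smul, ← hv] at h1
      have h2 := congrArg (fun z => v⁻¹.val • z) h1
      simpa only [smul_smul, Units.inv_mul, one_smul] using h2
    · apply (val f F).injective
      show val f F ((∏ j ∈ S, f j) ^ n • _) = _
      rw [val_smul, ← hv, Module.End.one_apply, AddEquiv.apply_symm_apply, smul_smul, Units.mul_inv, one_smul]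
  · obtain ⟨n, m, hm⟩ := exists_pow_smul_eq_mres_of_qcqs F hV hV' (∏ j ∈ S, f j) rfl le_top
      (val f F y)
    refine ⟨⟨m, ⟨_, n, rfl⟩⟩, (val f F).injective ?_⟩
    show val f F ((∏ j ∈ S, f j) ^ n • y) = val f F (topMap f F S m)
    rw [val_smul, map_pow]
    exact hm.symm
  · obtain ⟨n, hn⟩ := exists_pow_smul_eq_zero_of_isCompact F hV (∏ j ∈ S, f j) rfl
      (le_top : bo f S ≤ ⊤) (show Γ(F, ⊤) from m₁ - m₂) (by
        rw [map_sub, sub_eq_zero]
        exact congrArg (val f F) h)
    refine ⟨⟨_, n, rfl⟩, ?_⟩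
    rw [smul_sub, sub_eq_zero] at hn
    exact hn

/-- The system of sections over basic opens. -/
def sys : Sys Γ(X, ⊤) (F.val.obj (op ⊤)) f where
  N := secObj f F
  η := topMap f F
  loc := isLocalizedModule_topMap f F

lemma val_tr {S T : Finset (Fin r)} (h : S ⊆ T) (x : (sys f F).N S) :
    val f F ((sys f F).tr S T x) = mres F (bo_le f h) (val f F x) := by
  let R : secObj f F S →ₗ[Γ(X, ⊤)] secObj f F T :=
    { toFun := fun y => (val f F).symm (mres F (bo_le f h) (val f F y))
      map_add' := fun a b => by rw [map_add, map_add, map_add]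
      map_smul' := fun a y => (val f F).injective (by
        simp only [RingHom.id_apply, val_smul, AddEquiv.apply_symm_apply, mres_smul, ores_ores]) }
  have key : (sys f F).tr S T = R := by
    haveI := (sys f F).loc S
    refine IsLocalizedModule.ext (Submonoid.powers (∏ j ∈ S, f j)) ((sys f F).η S)
      ((sys f F).isUnit_of_dvd h) (LinearMap.ext fun m => ?_)
    refine ((sys f F).tr_η h m).trans ((val f F).injective ?_)
    show mres F _ (show Γ(F, ⊤) from m) = mres F _ (mres F _ (show Γ(F, ⊤) from m))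
    rw [mres_mres]
  rw [key]
  rfl

/-- The tuples of indices of the list of all indices. -/
abbrev idx : List (Fin r) := List.finRange r

/-- The cochains of the basic opens. -/
abbrev e₀ : Fin (idx (r := r)).length → Fin r := (idx (r := r)).get

/-- The bijection of index types. -/
def β : Fin (idx (r := r)).length ≃ ULift.{u} (Fin r) :=
  ((finCongr (List.length_finRange (n := r))).trans Equiv.ulift.symm)

lemma β_down (k : Fin (idx (r := r)).length) : (β k).down = e₀ k := by
  simp [β, e₀, idx, Fin.ext_iff]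

section Transfer

variable {Y : TopCat.{u}} (V : ULift.{u} (Fin r) → Opens Y) (P : TopCat.Presheaf AddCommGrpCat.{u} Y)
  (Φ : Opens Y → X.Opens) (E : ∀ W : Opens Y, P.obj (op W) ≃+ Γ(F, Φ W))

/-- Hypotheses for transporting cochains. -/
structure TransferData : Prop where
  mono : ∀ {W W' : Opens Y}, W ≤ W' → Φ W ≤ Φ W'
  nat : ∀ {W W' : Opens Y} (h : W ≤ W') (x : P.obj (op W')),
    E W (res P h x) = mres F (mono h) (E W' x)
  inter_eq : ∀ {p : ℕ} (i : Fin (p + 1) → ULift.{u} (Fin r)),
    Φ (inter V i) = bo f (∅ ∪ univ.image (e₀ ∘ ((β.{u}).symm ∘ i)))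

variable {f F V P Φ E} (hT : TransferData f F V P Φ E)

/-- Transport of cochains. -/
def Ψ (hT : TransferData f F V P Φ E) (p : ℕ) :
    C (sys f F) (e₀ (r := r)) ∅ (p + 1) ≃+ cochain V P (Fin (p + 1)) :=
  AddEquiv.mk' (Equiv.piCongr (Equiv.arrowCongr (Equiv.refl _) β.{u}) fun j =>
    ((val f F).toEquiv.trans
      { toFun := mres F (le_of_eq ((hT.inter_eq (β.{u} ∘ j)).trans (by
          rw [show (β.{u}).symm ∘ β.{u} ∘ j = j from funext fun a => (β.{u}).symm_apply_apply (j a)])))
        invFun := mres F (le_of_eq ((hT.inter_eq (β.{u} ∘ j)).trans (by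
          rw [show (β.{u}).symm ∘ β.{u} ∘ j = j from funext fun a => (β.{u}).symm_apply_apply (j a)])).symm)
        left_inv := fun x => (mres_mres F _ _ x).trans (mres_refl F _ x)
        right_inv := fun x => (mres_mres F _ _ x).trans (mres_refl F _ x) }).trans
      (E (inter V (β.{u} ∘ j))).symm.toEquiv)
    (fun a b => funext fun i => by
      obtain ⟨j, rfl⟩ := (Equiv.arrowCongr (Equiv.refl (Fin (p + 1))) β.{u}).surjective i
      rw [Pi.add_apply, Equiv.piCongr_apply_apply, Equiv.piCongr_apply_apply,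
        Equiv.piCongr_apply_apply]
      simp [map_add]
      exact map_add (E _).symm _ _)

lemma mres_val_congr {p : ℕ} (s : C (sys f F) (e₀ (r := r)) ∅ p) {a b : Fin p → _} (h : a = b)
    {W : X.Opens} (ha : W ≤ bo f (∅ ∪ univ.image (e₀ ∘ a))) :
    mres F ha (val f F (s a)) = mres F (h ▸ ha) (val f F (s b)) := by subst h; rfl

lemma E_Ψ (p : ℕ) (s : C (sys f F) (e₀ (r := r)) ∅ (p + 1)) (i : Fin (p + 1) → ULift.{u} (Fin r)) :
    E _ (Ψ hT p s i) = mres F (le_of_eq (hT.inter_eq i)) (val f F (s ((β.{u}).symm ∘ i))) := by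
  obtain ⟨j, rfl⟩ : ∃ j, i = β.{u} ∘ j := ⟨(β.{u}).symm ∘ i, funext fun a => (β.apply_symm_apply (i a)).symm⟩
  have h : Ψ hT p s (β.{u} ∘ j) = (E _).symm (mres F (le_of_eq ((hT.inter_eq (β.{u} ∘ j)).trans (by
      rw [show (β.{u}).symm ∘ β.{u} ∘ j = j from funext fun a => (β.{u}).symm_apply_apply (j a)])))
      (val f F (s j))) :=
    Equiv.piCongr_apply_apply (Equiv.arrowCongr (Equiv.refl (Fin (p + 1))) β.{u}) _ s j
  rw [h, AddEquiv.apply_symm_apply]
  exact mres_val_congr s (funext fun a => ((β.{u}).symm_apply_apply (j a)).symm) _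

lemma Ψ_d (p : ℕ) (s : C (sys f F) (e₀ (r := r)) ∅ (p + 1)) :
    dCech V P p (Ψ hT p s) = Ψ hT (p + 1) (d (sys f F) ∅ s) := by
  funext i
  refine (E _).injective ?_
  rw [E_Ψ, dCech, map_sum, d, D_apply, map_sum, map_sum]
  refine Finset.sum_congr rfl fun k _ => ?_
  rw [map_zsmul, map_zsmul, map_zsmul, hT.nat, E_Ψ, mres_mres, mul_one]
  refine congrArg (fun z => (-1 : ℤ) ^ (k : ℕ) • z) ?_
  rw [val_tr f F (union_subset_union_right (face_subset _ _ k)), mres_mres]
  rfl

/-- Cohomology of the cochains is Cech cohomology. -/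
theorem nonempty_Hc_equiv_cech (hT : TransferData f F V P Φ E) (q : ℕ) :
    Nonempty (Hc (sys f F) (e₀ (r := r)) (q + 2) ≃+ ((cech V P).homology (q + 1) :)) := by
  let K := cech V P
  let S := K.sc' q (q + 1) (q + 2)
  have hg : ∀ x, S.g x = dCech V P (q + 1) x := fun x => cech_d_apply V P (q + 1) x
  have hf : ∀ x, S.f x = dCech V P q x := fun x => cech_d_apply V P q x
  let φ : Zc (sys f F) (e₀ (r := r)) (q + 2) ≃+ AddMonoidHom.ker S.g.hom :=
    { toFun := fun s => ⟨Ψ hT (q + 1) s.1, by
        show S.g _ = 0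
        rw [hg, Ψ_d, show d (sys f F) ∅ s.1 = 0 from s.2, map_zero]⟩
      invFun := fun s => ⟨(Ψ hT (q + 1)).symm s.1, by
        show d (sys f F) ∅ _ = 0
        apply (Ψ hT (q + 2)).injective
        rw [← Ψ_d, AddEquiv.apply_symm_apply, map_zero, ← hg]
        exact s.2⟩
      left_inv := fun s => Subtype.ext ((Ψ hT (q + 1)).symm_apply_apply s.1)
      right_inv := fun s => Subtype.ext ((Ψ hT (q + 1)).apply_symm_apply s.1)
      map_add' := fun a b => Subtype.ext (map_add (Ψ hT (q + 1)) a.1 b.1) }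
  have hmap : (Bc (sys f F) (e₀ (r := r)) (q + 2)).toAddSubgroup.map φ.toAddMonoidHom =
      AddMonoidHom.range S.abToCycles := by
    ext x
    constructor
    · rintro ⟨s, ⟨w, hw⟩, rfl⟩
      refine ⟨Ψ hT q w, Subtype.ext ?_⟩
      show S.f _ = Ψ hT (q + 1) s.1
      rw [hf, Ψ_d, hw]
    · rintro ⟨w, rfl⟩
      refine ⟨φ.symm (S.abToCycles w), ⟨(Ψ hT q).symm w, ?_⟩, φ.apply_symm_apply _⟩
      apply (Ψ hT (q + 1)).injective
      show _ = Ψ hT (q + 1) ((Ψ hT (q + 1)).symm (S.f w))
      rw [← Ψ_d, AddEquiv.apply_symm_apply, AddEquiv.apply_symm_apply, hf]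
  exact ⟨(QuotientAddGroup.congr _ _ φ hmap).trans
    (S.abHomologyIso.symm.trans (K.homologyIsoSc' q (q + 1) (q + 2) (by simp) (by simp)).symm).addCommGroupIsoToAddEquiv⟩

end Transfer

end Groth.Agent.KoszulCech
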