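import Groth.Agent.KoszulCech.Cons
import Mathlib.Algebra.Category.ModuleCat.Abelian
import Mathlib.Algebra.Homology.HomotopyCategory.MappingCone
import Mathlib.Algebra.Homology.HomotopyCategory.Pretriangulated
import Mathlib.Algebra.Homology.Linear

/-!
# Cones of multiplication by powers against Cech cochains
-/

set_option autoImplicit false

noncomputable section

universe u

open Finset CategoryTheory Limits CochainComplex

namespace Groth.Agent.KoszulCech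

variable {A : Type u} [CommRing A] {M : Type u} [AddCommGroup M] [Module A M]
  {ι : Type} [DecidableEq ι] {f : ι → A} (Z : Sys A M f)

namespace Cone

variable {K : CochainComplex (ModuleCat.{u} A) ℤ} {c : A}

variable (K c) in
/-- The cone of multiplication. -/
abbrev obj : CochainComplex (ModuleCat.{u} A) ℤ := mappingCone (c • 𝟙 K)

variable (K c) in
/-- First component. -/
def pfst (i j : ℤ) (h : i + 1 = j) : (obj K c).X i →ₗ[A] K.X j :=
  ((mappingCone.fst (c • 𝟙 K)).1.v i j h).hom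

variable (K c) in
/-- Second component. -/
def psnd (i : ℤ) : (obj K c).X i →ₗ[A] K.X i :=
  ((mappingCone.snd (c • 𝟙 K)).v i i (add_zero i)).hom

variable (c) in
/-- An element of the cone. -/
def mk {i j : ℤ} (h : i + 1 = j) (x : K.X j) (y : K.X i) : (obj K c).X i :=
  ((mappingCone.inl (c • 𝟙 K)).v j i (by omega)).hom x + ((mappingCone.inr (c • 𝟙 K)).f i).hom y

lemma pfst_mk {i j : ℤ} (h : i + 1 = j) (x : K.X j) (y : K.X i) : pfst K c i j h (mk c h x y) = x := by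
  have h1 := ConcreteCategory.congr_hom (mappingCone.inl_v_fst_v (c • 𝟙 K) j i h) x
  have h2 := ConcreteCategory.congr_hom (mappingCone.inr_f_fst_v (c • 𝟙 K) i j h) y
  rw [mk, map_add]
  exact (congrArg₂ (· + ·) h1 h2).trans (add_zero _)

lemma psnd_mk {i j : ℤ} (h : i + 1 = j) (x : K.X j) (y : K.X i) : psnd K c i (mk c h x y) = y := by
  have h1 := ConcreteCategory.congr_hom (mappingCone.inl_v_snd_v (c • 𝟙 K) j i (by omega)) x
  have h2 := ConcreteCategory.congr_hom (mappingCone.inr_f_snd_v (c • 𝟙 K) i) y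
  rw [mk, map_add]
  exact (congrArg₂ (· + ·) h1 h2).trans (zero_add _)

lemma ext {i j : ℤ} (h : i + 1 = j) {z z' : (obj K c).X i}
    (h1 : pfst K c i j h z = pfst K c i j h z') (h2 : psnd K c i z = psnd K c i z') : z = z' := by
  have hz : ∀ w : (obj K c).X i, mk c h (pfst K c i j h w) (psnd K c i w) = w := fun w =>
    ConcreteCategory.congr_hom (mappingCone.id_X (c • 𝟙 K) i j h) w
  rw [← hz z, ← hz z', h1, h2]

lemma pfst_d {i j k : ℤ} (hij : i + 1 = j) (hjk : j + 1 = k) (z : (obj K c).X i) :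
    pfst K c j k hjk (((obj K c).d i j).hom z) = -(K.d j k).hom (pfst K c i j hij z) :=
  ConcreteCategory.congr_hom (mappingCone.d_fst_v (c • 𝟙 K) i j k hij hjk) z

lemma psnd_d {i j : ℤ} (hij : i + 1 = j) (z : (obj K c).X i) :
    psnd K c j (((obj K c).d i j).hom z) =
      c • pfst K c i j hij z + (K.d i j).hom (psnd K c i z) :=
  ConcreteCategory.congr_hom (mappingCone.d_snd_v (c • 𝟙 K) i j hij) z

variable {K' : CochainComplex (ModuleCat.{u} A) ℤ} {c' s : A} (t : K ⟶ K')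

lemma pfst_map (comm : (c • 𝟙 K) ≫ (s • t) = t ≫ (c' • 𝟙 K')) {i j : ℤ} (h : i + 1 = j)
    (z : (obj K c).X i) :
    pfst K' c' i j h (((mappingCone.map _ _ t (s • t) comm).f i).hom z) =
      (t.f j).hom (pfst K c i j h z) := by
  have : (mappingCone.map _ _ t (s • t) comm).f i ≫ (mappingCone.fst (c' • 𝟙 K')).1.v i j h =
      (mappingCone.fst (c • 𝟙 K)).1.v i j h ≫ t.f j := by
    rw [mappingCone.ext_from_iff _ j i h]
    constructor <;> simp [mappingCone.map]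
  exact ConcreteCategory.congr_hom this z

lemma psnd_map (comm : (c • 𝟙 K) ≫ (s • t) = t ≫ (c' • 𝟙 K')) (i : ℤ)
    (z : (obj K c).X i) :
    psnd K' c' i (((mappingCone.map _ _ t (s • t) comm).f i).hom z) =
      s • (t.f i).hom (psnd K c i z) := by
  have : (mappingCone.map _ _ t (s • t) comm).f i ≫ (mappingCone.snd (c' • 𝟙 K')).v i i (add_zero i) =
      (mappingCone.snd (c • 𝟙 K)).v i i (add_zero i) ≫ (s • t).f i := by
    rw [mappingCone.ext_from_iff _ (i + 1) i rfl]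
    constructor <;> simp [mappingCone.map]
  exact ConcreteCategory.congr_hom this z

end Cone

section IsBd

variable {κ : Type} {e : κ → ι} {T T' : Finset ι}

lemma isBd_zero {p : ℕ} : IsBd Z T (0 : C Z e T p) := by
  cases p with
  | zero => rfl
  | succ p => exact ⟨0, map_zero _⟩

lemma IsBd.map {κ' : Type} {e' : κ' → ι} {p : ℕ} {s : C Z e T p} (h : IsBd Z T s)
    (F : ∀ {q : ℕ}, C Z e T q →ₗ[A] C Z e' T' q)
    (hF : ∀ {q : ℕ} (w : C Z e T q), F (d Z T w) = d Z T' (F w)) : IsBd Z T' (F s) := by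
  cases p with
  | zero =>
    rw [show s = 0 from h]
    exact map_zero _
  | succ p =>
    obtain ⟨w, rfl⟩ := h
    exact ⟨F w, (hF w).symm⟩

lemma IsBd.add {p : ℕ} {s t : C Z e T p} (hs : IsBd Z T s) (ht : IsBd Z T t) : IsBd Z T (s + t) := by
  cases p with
  | zero =>
    rw [show s = 0 from hs, show t = 0 from ht, add_zero]
    rfl
  | succ p =>
    obtain ⟨w, rfl⟩ := hs
    obtain ⟨w', rfl⟩ := ht
    exact ⟨w + w', map_add _ _ _⟩

lemma IsBd.smul {p : ℕ} {s : C Z e T p} (hs : IsBd Z T s) (a : A) : IsBd Z T (a • s) :=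
  IsBd.map Z hs (a • LinearMap.id) fun w => (map_smul (d Z T) a w).symm

lemma IsBd.zsmul {p : ℕ} {s : C Z e T p} (hs : IsBd Z T s) (a : ℤ) : IsBd Z T (a • s) :=
  IsBd.map Z hs (a • LinearMap.id) fun w => (map_zsmul (d Z T) a w).symm

lemma IsBd.neg {p : ℕ} {s : C Z e T p} (hs : IsBd Z T s) : IsBd Z T (-s) :=
  IsBd.map Z hs (-LinearMap.id) fun w => (map_neg (d Z T) w).symm

lemma IsBd.sub {p : ℕ} {s t : C Z e T p} (hs : IsBd Z T s) (ht : IsBd Z T t) : IsBd Z T (s - t) := by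
  rw [sub_eq_add_neg]; exact IsBd.add Z hs (IsBd.neg Z ht)

lemma IsBd.d_eq_zero {p : ℕ} {s : C Z e T p} (hs : IsBd Z T s) : d Z T s = 0 := by
  cases p with
  | zero => rw [show s = 0 from hs, map_zero]
  | succ p =>
    obtain ⟨w, rfl⟩ := hs
    exact d_d Z T w

lemma IsBd.loc (h : T ⊆ T') {p : ℕ} {s : C Z e T p} (hs : IsBd Z T s) :
    IsBd Z T' (KoszulCech.loc Z T T' s) :=
  IsBd.map Z hs (KoszulCech.loc Z T T') fun w => loc_d Z h w

end IsBd

/-- A system of complexes whose limit computes the Cech cochains. -/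
structure Cmp {r : ℕ} (e : Fin r → ι) where
  K : ℕ → CochainComplex (ModuleCat.{u} A) ℤ
  t : ∀ n m : ℕ, n ≤ m → (K n ⟶ K m)
  t_comp : ∀ {n m l : ℕ} (h : n ≤ m) (h' : m ≤ l), t n m h ≫ t m l h' = t n l (h.trans h')
  σ : ℤ
  σ_sq : σ * σ = 1
  φ : ∀ (n : ℕ) (k : ℤ) (p : ℕ), k + r = p → ((K n).X k →ₗ[A] C Z e ∅ p)
  φ_t : ∀ {n m : ℕ} (h : n ≤ m) (k : ℤ) (p : ℕ) (hk : k + r = p) (x : (K n).X k),
    φ m k p hk (((t n m h).f k).hom x) = φ n k p hk x
  low : ∀ (n : ℕ) (k : ℤ), k + r < 0 → Subsingleton ((K n).X k)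
  comm : ∀ (n : ℕ) (k k' : ℤ) (p : ℕ) (hk : k + r = p) (hk' : k' + r = (p + 1 : ℕ)) (x : (K n).X k),
    d Z ∅ (φ n k p hk x) = σ • φ n k' (p + 1) hk' (((K n).d k k').hom x)
  surj : ∀ (k k' : ℤ) (p : ℕ) (hk : k + r = p) (_ : k + 1 = k') (s : C Z e ∅ p), d Z ∅ s = 0 →
    ∃ (n : ℕ) (x : (K n).X k), ((K n).d k k').hom x = 0 ∧ IsBd Z ∅ (φ n k p hk x - s)
  inj : ∀ (n : ℕ) (j k k' : ℤ) (p : ℕ) (hk : k + r = p) (_ : j + 1 = k) (_ : k + 1 = k')
    (x : (K n).X k), ((K n).d k k').hom x = 0 → IsBd Z ∅ (φ n k p hk x) →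
    ∃ (m : ℕ) (h : n ≤ m) (w : (K m).X j), ((K m).d j k).hom w = ((t n m h).f k).hom x

variable {Z}

namespace Cmp

lemma t_d {r : ℕ} {e : Fin r → ι} (P : Cmp Z e) {n m : ℕ} (h : n ≤ m) (k k' : ℤ)
    (x : (P.K n).X k) :
    ((P.K m).d k k').hom (((P.t n m h).f k).hom x) = ((P.t n m h).f k').hom (((P.K n).d k k').hom x) :=
  ConcreteCategory.congr_hom ((P.t n m h).comm k k') x

lemma t_t {r : ℕ} {e : Fin r → ι} (P : Cmp Z e) {n m l : ℕ} (h : n ≤ m) (h' : m ≤ l) (k : ℤ)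
    (x : (P.K n).X k) :
    ((P.t m l h').f k).hom (((P.t n m h).f k).hom x) = ((P.t n l (h.trans h')).f k).hom x := by
  rw [← P.t_comp h h']
  rfl

variable {r : ℕ} {e' : Fin (r + 1) → ι} (P : Cmp Z (e' ∘ Fin.succ))

/-- The map to the localised cochains. -/
def g (n : ℕ) (k : ℤ) (p : ℕ) (hk : k + r = p) :
    (P.K n).X k →ₗ[A] C Z (e' ∘ Fin.succ) {e' 0} p :=
  (pInv Z e' n).comp ((loc Z ∅ {e' 0}).comp (P.φ n k p hk))

lemma pow_smul_g (n : ℕ) (k : ℤ) (p : ℕ) (hk : k + r = p) (x : (P.K n).X k) :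
    f (e' 0) ^ n • P.g n k p hk x = loc Z ∅ {e' 0} (P.φ n k p hk x) :=
  pow_smul_pInv Z e' n _

lemma g_pow_smul (n : ℕ) (k : ℤ) (p : ℕ) (hk : k + r = p) (x : (P.K n).X k) :
    P.g n k p hk (f (e' 0) ^ n • x) = loc Z ∅ {e' 0} (P.φ n k p hk x) := by
  rw [map_smul, pow_smul_g]

lemma g_t {n m : ℕ} (h : n ≤ m) (k : ℤ) (p : ℕ) (hk : k + r = p) (x : (P.K n).X k) :
    P.g m k p hk (f (e' 0) ^ (m - n) • ((P.t n m h).f k).hom x) = P.g n k p hk x := by
  refine pow_smul_inj Z e' m ?_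
  rw [map_smul, smul_comm, pow_smul_g, P.φ_t, ← pow_smul_g P n k p hk, smul_smul, ← pow_add,
    Nat.sub_add_cancel h]

lemma d_g (n : ℕ) (k k' : ℤ) (p : ℕ) (hk : k + r = p) (hk' : k' + r = (p + 1 : ℕ)) (x : (P.K n).X k) :
    d Z {e' 0} (P.g n k p hk x) = P.σ • P.g n k' (p + 1) hk' (((P.K n).d k k').hom x) := by
  refine pow_smul_inj Z e' n ?_
  rw [← map_smul, pow_smul_g, ← loc_d Z (empty_subset _), P.comm n k k' p hk hk', map_zsmul,
    smul_comm (f (e' 0) ^ n) P.σ, pow_smul_g]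

lemma isBd_of_pow_smul (n : ℕ) {p : ℕ} {u : C Z (e' ∘ Fin.succ) {e' 0} p}
    (h : IsBd Z {e' 0} (f (e' 0) ^ n • u)) : IsBd Z {e' 0} u := by
  cases p with
  | zero => exact pow_smul_inj Z e' n (h.trans (smul_zero _).symm)
  | succ p =>
    obtain ⟨w, hw⟩ := h
    refine ⟨pInv Z e' n w, pow_smul_inj Z e' n ?_⟩
    rw [← map_smul, pow_smul_pInv, hw]

theorem g_surj (k k' : ℤ) (p : ℕ) (hk : k + r = p) (hkk : k + 1 = k')
    (b : C Z (e' ∘ Fin.succ) {e' 0} p) (hb : d Z {e' 0} b = 0) :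
    ∃ (n : ℕ) (y : (P.K n).X k), ((P.K n).d k k').hom y = 0 ∧
      IsBd Z {e' 0} (P.g n k p hk y - b) := by
  obtain ⟨c, x, hx⟩ := exists_pow_smul_eq_loc Z e' b
  have h0 : loc Z ∅ {e' 0} (d Z ∅ x) = 0 := by
    rw [loc_d Z (empty_subset _), ← hx, map_smul, hb, smul_zero]
  obtain ⟨j, hj⟩ := exists_pow_smul_eq_zero_of_loc Z e' _ h0
  obtain ⟨n, y, hy, hBd⟩ := P.surj k k' p hk hkk (f (e' 0) ^ j • x) (by rw [map_smul, hj])
  refine ⟨n + (c + j), f (e' 0) ^ n • ((P.t n (n + (c + j)) (by omega)).f k).hom y, ?_, ?_⟩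
  · rw [map_smul, P.t_d, hy, map_zero, smul_zero]
  · refine isBd_of_pow_smul (n + (c + j)) ?_
    have h1 := IsBd.smul Z (IsBd.loc Z (empty_subset {e' 0}) hBd) (f (e' 0) ^ n)
    rw [map_sub, map_smul (loc Z ∅ {e' 0}) (f (e' 0) ^ j), ← hx, smul_sub, smul_smul, smul_smul,
      ← pow_add, ← pow_add] at h1
    rw [smul_sub, pow_smul_g, map_smul, map_smul, P.φ_t]
    convert h1 using 4
    omega

theorem g_inj (n : ℕ) (j k k' : ℤ) (p : ℕ) (hk : k + r = p) (hjk : j + 1 = k) (hkk : k + 1 = k')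
    (y : (P.K n).X k) (hy : ((P.K n).d k k').hom y = 0) (hBd : IsBd Z {e' 0} (P.g n k p hk y)) :
    ∃ (m : ℕ) (h : n ≤ m) (w : (P.K m).X j),
      ((P.K m).d j k).hom w = f (e' 0) ^ (m - n) • ((P.t n m h).f k).hom y := by
  have h1 := IsBd.smul Z hBd (f (e' 0) ^ n)
  rw [pow_smul_g] at h1
  obtain ⟨c, hc⟩ : ∃ c : ℕ, IsBd Z ∅ (P.φ n k p hk (f (e' 0) ^ c • y)) := by
    cases p with
    | zero =>
      obtain ⟨c, hc⟩ := exists_pow_smul_eq_zero_of_loc Z e' _ (show loc Z ∅ {e' 0} _ = 0 from h1)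
      exact ⟨c, by rw [map_smul, hc]; exact isBd_zero Z⟩
    | succ p =>
      obtain ⟨w, hw⟩ := h1
      obtain ⟨a, x, hx⟩ := exists_pow_smul_eq_loc Z e' w
      have h0 : loc Z ∅ {e' 0} (f (e' 0) ^ a • P.φ n k (p + 1) hk y - d Z ∅ x) = 0 := by
        rw [map_sub, map_smul, loc_d Z (empty_subset _), ← hx, map_smul, hw, sub_self]
      obtain ⟨b, hb⟩ := exists_pow_smul_eq_zero_of_loc Z e' _ h0
      rw [smul_sub, sub_eq_zero, smul_smul, ← pow_add] at hb
      refine ⟨b + a, f (e' 0) ^ b • x, ?_⟩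
      rw [map_smul, map_smul, hb]
  obtain ⟨m, hm, w, hw⟩ := P.inj n j k k' p hk hjk hkk _ (by rw [map_smul, hy, smul_zero]) hc
  have hl : n ≤ m + c := by omega
  refine ⟨m + c, hl, f (e' 0) ^ (m - n) • ((P.t m (m + c) (by omega)).f j).hom w, ?_⟩
  rw [map_smul, P.t_d, hw, map_smul, map_smul, P.t_t, smul_smul, ← pow_add]
  congr 2
  omega

/-- The comparison for one more element. -/
def stepφ (n : ℕ) (k : ℤ) : ∀ p : ℕ, k + (r + 1 : ℕ) = p →
    ((Cone.obj (P.K n) (f (e' 0) ^ n)).X k →ₗ[A] C Z e' ∅ p)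
  | 0, hk => (extZ Z e' ∅).comp ((P.φ n (k + 1) 0 (by omega)).comp (Cone.pfst _ _ k (k + 1) rfl))
  | q + 1, hk =>
    (extZ Z e' ∅).comp ((P.φ n (k + 1) (q + 1) (by omega)).comp (Cone.pfst _ _ k (k + 1) rfl)) +
      (-P.σ) • (G Z e').comp ((P.g n k q (by omega)).comp (Cone.psnd _ _ k))

lemma φ_congr (n : ℕ) {k k₁ : ℤ} (h : k = k₁) (p : ℕ) (hk : k + r = p) (hk₁ : k₁ + r = p)
    {c : A} {i : ℤ} (hi : i + 1 = k) (z : (Cone.obj (P.K n) c).X i) :
    P.φ n k p hk (Cone.pfst _ _ i k hi z) = P.φ n k₁ p hk₁ (Cone.pfst _ _ i k₁ (h ▸ hi) z) := by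
  subst h; rfl

lemma stepφ_zero (n : ℕ) (k j : ℤ) (hj : k + 1 = j) (hk : k + (r + 1 : ℕ) = (0 : ℕ))
    (z : (Cone.obj (P.K n) (f (e' 0) ^ n)).X k) :
    P.stepφ n k 0 hk z = extZ Z e' ∅ (P.φ n j 0 (by omega) (Cone.pfst _ _ k j hj z)) := by
  subst hj; rfl

lemma stepφ_succ (n : ℕ) (k j : ℤ) (hj : k + 1 = j) (q : ℕ) (hk : k + (r + 1 : ℕ) = (q + 1 : ℕ))
    (z : (Cone.obj (P.K n) (f (e' 0) ^ n)).X k) :
    P.stepφ n k (q + 1) hk z =
      extZ Z e' ∅ (P.φ n j (q + 1) (by omega) (Cone.pfst _ _ k j hj z)) +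
        (-P.σ) • G Z e' (P.g n k q (by omega) (Cone.psnd _ _ k z)) := by
  subst hj; rfl

lemma trans_comm (n m : ℕ) (h : n ≤ m) :
    ((f (e' 0) ^ n) • 𝟙 (P.K n)) ≫ (f (e' 0) ^ (m - n) • P.t n m h) =
      P.t n m h ≫ ((f (e' 0) ^ m) • 𝟙 (P.K m)) := by
  simp only [Linear.smul_comp, Linear.comp_smul, Category.id_comp, Category.comp_id, smul_smul,
    ← pow_add, Nat.sub_add_cancel h]

/-- The transition on cones. -/
def stepT (n m : ℕ) (h : n ≤ m) :
    Cone.obj (P.K n) (f (e' 0) ^ n) ⟶ Cone.obj (P.K m) (f (e' 0) ^ m) :=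
  mappingCone.map _ _ (P.t n m h) (f (e' 0) ^ (m - n) • P.t n m h) (P.trans_comm n m h)

lemma pfst_stepT {n m : ℕ} (h : n ≤ m) {i j : ℤ} (hij : i + 1 = j)
    (z : (Cone.obj (P.K n) (f (e' 0) ^ n)).X i) :
    Cone.pfst _ _ i j hij (((P.stepT n m h).f i).hom z) = ((P.t n m h).f j).hom (Cone.pfst _ _ i j hij z) :=
  Cone.pfst_map _ (P.trans_comm n m h) hij z

lemma psnd_stepT {n m : ℕ} (h : n ≤ m) (i : ℤ) (z : (Cone.obj (P.K n) (f (e' 0) ^ n)).X i) :
    Cone.psnd _ _ i (((P.stepT n m h).f i).hom z) =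
      f (e' 0) ^ (m - n) • ((P.t n m h).f i).hom (Cone.psnd _ _ i z) :=
  Cone.psnd_map _ (P.trans_comm n m h) i z

lemma stepT_comp {n m l : ℕ} (h : n ≤ m) (h' : m ≤ l) :
    P.stepT n m h ≫ P.stepT m l h' = P.stepT n l (h.trans h') := by
  refine HomologicalComplex.hom_ext _ _ fun i => ModuleCat.hom_ext (LinearMap.ext fun z => ?_)
  refine Cone.ext (rfl : i + 1 = i + 1) ?_ ?_
  · show Cone.pfst _ _ i _ rfl (((P.stepT m l h').f i).hom (((P.stepT n m h).f i).hom z)) = _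
    rw [pfst_stepT, pfst_stepT, pfst_stepT, t_t]
  · show Cone.psnd _ _ i (((P.stepT m l h').f i).hom (((P.stepT n m h).f i).hom z)) = _
    rw [psnd_stepT, psnd_stepT, psnd_stepT, map_smul, t_t, smul_smul, ← pow_add]
    congr 2
    omega

lemma stepφ_t {n m : ℕ} (h : n ≤ m) (k : ℤ) (p : ℕ) (hk : k + (r + 1 : ℕ) = p)
    (z : (Cone.obj (P.K n) (f (e' 0) ^ n)).X k) :
    P.stepφ m k p hk (((P.stepT n m h).f k).hom z) = P.stepφ n k p hk z := by
  cases p with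
  | zero => rw [stepφ_zero P m k _ rfl, stepφ_zero P n k _ rfl, pfst_stepT, P.φ_t]
  | succ q =>
    rw [stepφ_succ P m k _ rfl, stepφ_succ P n k _ rfl, pfst_stepT, P.φ_t, psnd_stepT, g_t]

lemma step_low (n : ℕ) (k : ℤ) (hk : k + (r + 1 : ℕ) < 0) :
    Subsingleton ((Cone.obj (P.K n) (f (e' 0) ^ n)).X k) := by
  haveI := P.low n (k + 1) (by omega)
  haveI := P.low n k (by omega)
  exact ⟨fun a b => Cone.ext rfl (Subsingleton.elim _ _) (Subsingleton.elim _ _)⟩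

lemma restr_stepφ (n : ℕ) (k j : ℤ) (hj : k + 1 = j) (p : ℕ) (hk : k + (r + 1 : ℕ) = p)
    (z : (Cone.obj (P.K n) (f (e' 0) ^ n)).X k) :
    restr Z e' ∅ (P.stepφ n k p hk z) = P.φ n j p (by omega) (Cone.pfst _ _ k j hj z) := by
  cases p with
  | zero => rw [stepφ_zero P n k j hj, restr_extZ]
  | succ q =>
    rw [stepφ_succ P n k j hj, map_add, map_zsmul, restr_G, smul_zero, add_zero, restr_extZ]

lemma step_comm (n : ℕ) (k k' : ℤ) (p : ℕ) (hk : k + (r + 1 : ℕ) = p)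
    (hk' : k' + (r + 1 : ℕ) = (p + 1 : ℕ)) (z : (Cone.obj (P.K n) (f (e' 0) ^ n)).X k) :
    d Z ∅ (P.stepφ n k p hk z) =
      (-P.σ) • P.stepφ n k' (p + 1) hk' (((Cone.obj (P.K n) (f (e' 0) ^ n)).d k k').hom z) := by
  obtain rfl : k' = k + 1 := by omega
  have hsq := P.σ_sq
  rw [stepφ_succ P n (k + 1) (k + 1 + 1) rfl, Cone.pfst_d rfl rfl, Cone.psnd_d rfl, map_neg, map_neg,
    map_add, g_pow_smul, map_add, G_loc, smul_add, smul_neg, ← neg_smul, neg_neg, smul_smul,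
    neg_mul_neg, hsq, one_smul]
  cases p with
  | zero =>
    have hlow := P.low n k (by omega)
    rw [Subsingleton.elim (Cone.psnd _ _ k z) 0, map_zero, map_zero, map_zero, add_zero,
      stepφ_zero P n k (k + 1) rfl, d_extZ, P.comm n (k + 1) (k + 1 + 1) 0 (by omega) (by omega),
      map_zsmul]
  | succ q =>
    rw [stepφ_succ P n k (k + 1) rfl, map_add, map_zsmul, d_extZ, d_G,
      P.comm n (k + 1) (k + 1 + 1) (q + 1) (by omega) (by omega), map_zsmul,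
      d_g P n k (k + 1) q (by omega) (by omega), map_zsmul, smul_neg, ← neg_smul, neg_neg,
      smul_smul, hsq, one_smul]
    abel

lemma exists_cycle_lift {p : ℕ} {u : C Z (e' ∘ Fin.succ) ∅ p} (hu : IsBd Z ∅ u) :
    ∃ v : C Z e' ∅ p, IsBd Z ∅ v ∧ restr Z e' ∅ v = u := by
  cases p with
  | zero => exact ⟨0, rfl, (map_zero _).trans hu.symm⟩
  | succ p =>
    obtain ⟨w, rfl⟩ := hu
    exact ⟨_, ⟨extZ Z e' ∅ w, rfl⟩, by rw [restr_d, restr_extZ]⟩

lemma isBd_G {p : ℕ} {u : C Z (e' ∘ Fin.succ) {e' 0} p} (hu : IsBd Z {e' 0} u) :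
    IsBd Z ∅ (G Z e' u) := by
  cases p with
  | zero =>
    rw [show u = 0 from hu, map_zero]
    exact isBd_zero Z
  | succ p =>
    obtain ⟨w, rfl⟩ := hu
    exact ⟨-G Z e' w, by rw [map_neg, d_G, neg_neg]⟩

/-- A cocycle in degree zero is determined by its restriction. -/
lemma eq_of_restr_zero {s t : C Z e' ∅ 0} (h : restr Z e' ∅ s = restr Z e' ∅ t) : s = t := by
  funext i
  obtain rfl : i = Fin.succ ∘ (Fin.elim0 : Fin 0 → Fin r) := funext fun a => a.elim0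
  exact congrFun h _

/-- The head of a differential, up to boundaries. -/
lemma isBd_loc_restr_sub_head_d {p : ℕ} (s : C Z e' ∅ p) :
    IsBd Z {e' 0} (loc Z ∅ {e' 0} (restr Z e' ∅ s) - head Z e' (d Z ∅ s)) := by
  cases p with
  | zero =>
    show _ = 0
    funext j
    rw [Pi.sub_apply, head_apply, d, D_apply, Fin.sum_univ_one, Pi.zero_apply, loc_apply,
      restr_apply, sub_eq_zero]
    simp only [Fin.val_zero, pow_zero, one_mul, one_smul]
    rw [tr_congr Z e' s (cons_zero_succAbove 0 (Fin.succ ∘ j)),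
      Z.tr_tr (by rw [empty_union, empty_union, image_cons]; exact subset_insert _ _)
        (head_subset e' j).subset]
    rfl
  | succ p =>
    rw [head_d, sub_sub_cancel]
    exact ⟨_, rfl⟩

theorem step_surj (k k' : ℤ) (p : ℕ) (hk : k + (r + 1 : ℕ) = p) (hkk : k + 1 = k')
    (s : C Z e' ∅ p) (hs : d Z ∅ s = 0) :
    ∃ (n : ℕ) (z : (Cone.obj (P.K n) (f (e' 0) ^ n)).X k),
      ((Cone.obj (P.K n) (f (e' 0) ^ n)).d k k').hom z = 0 ∧
        IsBd Z ∅ (P.stepφ n k p hk z - s) := by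
  obtain ⟨n, x, hx, hxs⟩ := P.surj k' (k' + 1) p (by omega) rfl (restr Z e' ∅ s)
    (by rw [← restr_d, hs, map_zero])
  obtain ⟨v, hv, hvr⟩ := exists_cycle_lift hxs
  let s' := s + v
  have hs' : d Z ∅ s' = 0 := by rw [map_add, hs, IsBd.d_eq_zero Z hv, add_zero]
  have hr' : restr Z e' ∅ s' = P.φ n k' p (by omega) x := by
    rw [map_add, hvr, add_sub_cancel]
  have hg : IsBd Z {e' 0} (P.g n k' p (by omega) (f (e' 0) ^ n • x)) := by
    have := isBd_loc_restr_sub_head_d (e' := e') s'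
    rwa [hs', map_zero, sub_zero, hr', ← g_pow_smul] at this
  obtain ⟨m, hm, w, hw⟩ := P.g_inj n k k' (k' + 1) p (by omega) hkk rfl _
    (by rw [map_smul, hx, smul_zero]) hg
  rw [map_smul, smul_smul, ← pow_add, Nat.sub_add_cancel hm] at hw
  let z : (Cone.obj (P.K m) (f (e' 0) ^ m)).X k :=
    Cone.mk _ hkk (((P.t n m hm).f k').hom x) (-w)
  have hz : ((Cone.obj (P.K m) (f (e' 0) ^ m)).d k k').hom z = 0 := by
    refine Cone.ext (rfl : k' + 1 = k' + 1) ?_ ?_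
    · rw [Cone.pfst_d hkk rfl, Cone.pfst_mk, P.t_d, hx, map_zero, neg_zero, map_zero]
    · rw [Cone.psnd_d hkk, Cone.pfst_mk, Cone.psnd_mk, map_neg, hw, add_neg_cancel, map_zero]
  have hzr : restr Z e' ∅ (P.stepφ m k p hk z) = P.φ n k' p (by omega) x := by
    rw [restr_stepφ P m k k' hkk, Cone.pfst_mk, P.φ_t]
  have hzd : d Z ∅ (P.stepφ m k p hk z) = 0 := by
    rw [P.step_comm m k k' p hk (by omega), hz, map_zero, smul_zero]
  cases p with
  | zero =>
    refine ⟨m, z, hz, ?_⟩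
    rw [eq_of_restr_zero (hzr.trans hr'.symm), add_sub_cancel_left]
    exact hv
  | succ q =>
    let s₁ := s' - P.stepφ m k (q + 1) hk z
    have hr₁ : restr Z e' ∅ s₁ = 0 := by rw [map_sub, hzr, hr', sub_self]
    have hs₁ : d Z ∅ s₁ = 0 := by rw [map_sub, hs', hzd, sub_zero]
    have hh₁ : d Z {e' 0} (head Z e' s₁) = 0 := by
      have := head_d Z e' s₁
      rwa [hs₁, hr₁, map_zero, map_zero, zero_sub, zero_eq_neg] at this
    obtain ⟨l, y, hy, hyb⟩ := P.g_surj k k' q (by omega) hkk _ hh₁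
    let z₁ : (Cone.obj (P.K l) (f (e' 0) ^ l)).X k := Cone.mk _ hkk 0 ((-P.σ) • y)
    have hz₁ : ((Cone.obj (P.K l) (f (e' 0) ^ l)).d k k').hom z₁ = 0 := by
      refine Cone.ext (rfl : k' + 1 = k' + 1) ?_ ?_
      · rw [Cone.pfst_d hkk rfl, Cone.pfst_mk, map_zero, neg_zero, map_zero]
      · rw [Cone.psnd_d hkk, Cone.pfst_mk, Cone.psnd_mk, map_zsmul, hy, smul_zero, smul_zero,
          add_zero, map_zero]
    have hz₁φ : P.stepφ l k (q + 1) hk z₁ = G Z e' (P.g l k q (by omega) y) := by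
      rw [stepφ_succ P l k k' hkk, Cone.pfst_mk, Cone.psnd_mk, map_zero, map_zero, zero_add,
        map_zsmul, map_zsmul, smul_smul, neg_mul_neg, P.σ_sq, one_smul]
    refine ⟨max m l, ((P.stepT m _ (le_max_left m l)).f k).hom z +
      ((P.stepT l _ (le_max_right m l)).f k).hom z₁, ?_, ?_⟩
    · rw [map_add]
      have e1 := ConcreteCategory.congr_hom ((P.stepT m _ (le_max_left m l)).comm k k') z
      have e2 := ConcreteCategory.congr_hom ((P.stepT l _ (le_max_right m l)).comm k k') z₁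
      refine (congrArg₂ (· + ·) e1 e2).trans ?_
      show ((P.stepT m _ _).f k').hom _ + ((P.stepT l _ _).f k').hom _ = 0
      erw [hz, hz₁]
      simp
    · rw [map_add, stepφ_t, stepφ_t, hz₁φ]
      have hBd : IsBd Z {e' 0} (P.g l k q (by omega) y - head Z e' s₁) := hyb
      let s₃ := s₁ - G Z e' (head Z e' s₁)
      have h₃ : IsBd Z ∅ s₃ := isBd_of_restr_head Z e' s₃
        (by rw [map_sub, hs₁, d_G, hh₁, map_zero, neg_zero, sub_zero])
        (by rw [map_sub, hr₁, restr_G, sub_zero]) (by rw [map_sub, head_G, sub_self])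
      have hfin := IsBd.add Z (IsBd.sub Z hv h₃) (isBd_G hBd)
      convert hfin using 1
      simp only [s₃, s₁, s', map_sub]
      abel

theorem step_inj (n : ℕ) (j k k' : ℤ) (p : ℕ) (hk : k + (r + 1 : ℕ) = p) (hjk : j + 1 = k)
    (hkk : k + 1 = k') (z : (Cone.obj (P.K n) (f (e' 0) ^ n)).X k)
    (hz : ((Cone.obj (P.K n) (f (e' 0) ^ n)).d k k').hom z = 0)
    (hBd : IsBd Z ∅ (P.stepφ n k p hk z)) :
    ∃ (m : ℕ) (h : n ≤ m) (w : (Cone.obj (P.K m) (f (e' 0) ^ m)).X j),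
      ((Cone.obj (P.K m) (f (e' 0) ^ m)).d j k).hom w = ((P.stepT n m h).f k).hom z := by
  have hfd : ((P.K n).d k' (k' + 1)).hom (Cone.pfst _ _ k k' hkk z) = 0 := by
    have := Cone.pfst_d hkk (rfl : k' + 1 = k' + 1) z
    rwa [hz, map_zero, zero_eq_neg] at this
  have hφ := IsBd.map Z hBd (restr Z e' ∅) (fun w => restr_d Z e' ∅ w)
  rw [restr_stepφ P n k k' hkk] at hφ
  obtain ⟨m, hm, u, hu⟩ := P.inj n k k' (k' + 1) p (by omega) hkk rfl _ hfd hφ
  let w₀ : (Cone.obj (P.K m) (f (e' 0) ^ m)).X j := Cone.mk _ hjk u 0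
  let z₁ : (Cone.obj (P.K m) (f (e' 0) ^ m)).X k :=
    ((P.stepT n m hm).f k).hom z + ((Cone.obj (P.K m) (f (e' 0) ^ m)).d j k).hom w₀
  have hz₁d : ((Cone.obj (P.K m) (f (e' 0) ^ m)).d k k').hom z₁ = 0 := by
    rw [map_add]
    have e1 := ConcreteCategory.congr_hom ((P.stepT n m hm).comm k k') z
    have e2 := ConcreteCategory.congr_hom ((Cone.obj (P.K m) (f (e' 0) ^ m)).d_comp_d j k k') w₀
    refine (congrArg₂ (· + ·) e1 e2).trans ?_
    show ((P.stepT n m hm).f k').hom _ + 0 = 0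
    erw [hz]
    simp
  have hz₁f : Cone.pfst _ _ k k' hkk z₁ = 0 := by
    rw [map_add, pfst_stepT, Cone.pfst_d hjk hkk, Cone.pfst_mk, hu, add_neg_cancel]
  obtain ⟨y, hy⟩ : ∃ y, y = Cone.psnd _ _ k z₁ := ⟨_, rfl⟩
  have hyd : ((P.K m).d k k').hom y = 0 := by
    have := Cone.psnd_d hkk z₁
    rw [hz₁d, map_zero, hz₁f, smul_zero, zero_add] at this
    rw [hy, ← this]
  suffices ∃ (l : ℕ) (h : m ≤ l) (w : (Cone.obj (P.K l) (f (e' 0) ^ l)).X j),
      ((Cone.obj (P.K l) (f (e' 0) ^ l)).d j k).hom w = ((P.stepT m l h).f k).hom z₁ by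
    obtain ⟨l, hl, w, hw⟩ := this
    refine ⟨l, hm.trans hl, w - ((P.stepT m l hl).f j).hom w₀, ?_⟩
    have e1 := ConcreteCategory.congr_hom ((P.stepT m l hl).comm j k) w₀
    have e2 := ConcreteCategory.congr_hom
      (congrArg (fun g => HomologicalComplex.Hom.f g k) (P.stepT_comp hm hl)) z
    rw [map_sub, hw, map_add]
    refine (congrArg₂ (fun a b => a - b) rfl e1).trans ?_
    rw [← e2]
    exact add_sub_cancel_right _ _
  cases p with
  | zero =>
    haveI := P.low m k (by omega)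
    refine ⟨m, le_rfl, 0, ?_⟩
    rw [show z₁ = 0 from Cone.ext hkk (hz₁f.trans (map_zero _).symm) (Subsingleton.elim _ _),
      map_zero, map_zero]
  | succ q =>
    have hBd₁ : IsBd Z ∅ ((-P.σ) • G Z e' (P.g m k q (by omega) y)) := by
      have h1 : P.stepφ m k (q + 1) hk z₁ = (-P.σ) • G Z e' (P.g m k q (by omega) y) := by
        rw [stepφ_succ P m k k' hkk, hz₁f, map_zero, map_zero, zero_add, hy]
      rw [← h1, map_add, stepφ_t]
      refine IsBd.add Z hBd ?_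
      refine ⟨(-P.σ) • P.stepφ m j q (by omega) w₀, ?_⟩
      rw [map_zsmul, P.step_comm m j k q (by omega) (by omega), smul_smul, neg_mul_neg, P.σ_sq,
        one_smul]
    obtain ⟨w', hw'⟩ := hBd₁
    obtain ⟨l, x₂, hx₂, hx₂b⟩ := P.surj k k' q (by omega) hkk (restr Z e' ∅ w') (by
      rw [← restr_d, hw', map_zsmul, restr_G, smul_zero])
    have hh : IsBd Z {e' 0} (loc Z ∅ {e' 0} (restr Z e' ∅ w') - (-P.σ) • P.g m k q (by omega) y) := by
      have := isBd_loc_restr_sub_head_d (e' := e') w'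
      rwa [hw', map_zsmul, head_G] at this
    let N := max m l
    let y' := (-P.σ) • (f (e' 0) ^ (N - m) • ((P.t m N (le_max_left m l)).f k).hom y) -
      f (e' 0) ^ N • ((P.t l N (le_max_right m l)).f k).hom x₂
    have hy'd : ((P.K N).d k k').hom y' = 0 := by
      rw [map_sub, map_zsmul, map_smul, map_smul, P.t_d, P.t_d, hyd, hx₂, map_zero, map_zero,
        smul_zero, smul_zero, smul_zero, sub_zero]
    have hy'b : IsBd Z {e' 0} (P.g N k q (by omega) y') := by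
      rw [map_sub, map_zsmul, g_t, g_pow_smul, P.φ_t]
      have := IsBd.neg Z (IsBd.add Z hh (IsBd.loc Z (empty_subset {e' 0}) hx₂b))
      rw [map_sub] at this
      convert this using 1
      abel
    obtain ⟨m', hm', u', hu'⟩ := P.g_inj N j k k' q (by omega) hjk hkk y' hy'd hy'b
    refine ⟨m', (le_max_left m l).trans hm', Cone.mk _ hjk
      ((-P.σ) • ((P.t l m' ((le_max_right m l).trans hm')).f k).hom x₂) ((-P.σ) • u'), ?_⟩
    refine Cone.ext hkk ?_ ?_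
    · rw [Cone.pfst_d hjk hkk, Cone.pfst_mk, pfst_stepT, hz₁f, map_zero, map_zsmul, P.t_d, hx₂,
        map_zero, smul_zero, neg_zero]
    · rw [Cone.psnd_d hjk, Cone.pfst_mk, Cone.psnd_mk, psnd_stepT, ← hy, map_zsmul, hu', map_sub,
        map_zsmul, map_smul, map_smul, t_t, t_t, smul_sub, smul_sub,
        smul_comm (f (e' 0) ^ (m' - N)) (-P.σ), smul_smul (-P.σ) (-P.σ), neg_mul_neg, P.σ_sq,
        one_smul, smul_smul (f (e' 0) ^ (m' - N)), smul_smul (f (e' 0) ^ (m' - N)), ← pow_add,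
        ← pow_add, Nat.sub_add_cancel hm', smul_comm (f (e' 0) ^ m') (-P.σ), add_sub_cancel,
        show m' - N + (N - m) = m' - m from by
          have : m ≤ N := le_max_left m l
          omega]

/-- One more element. -/
def step : Cmp Z e' where
  K n := Cone.obj (P.K n) (f (e' 0) ^ n)
  t n m h := P.stepT n m h
  t_comp h h' := P.stepT_comp h h'
  σ := -P.σ
  σ_sq := by rw [neg_mul_neg, P.σ_sq]
  φ n k p hk := P.stepφ n k p hk
  φ_t h k p hk x := P.stepφ_t h k p hk x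
  low n k hk := P.step_low n k hk
  comm n k k' p hk hk' x := P.step_comm n k k' p hk hk' x
  surj k k' p hk hkk s hs := P.step_surj k k' p hk hkk s hs
  inj n j k k' p hk hjk hkk x hx h := P.step_inj n j k k' p hk hjk hkk x hx h

end Cmp

end Groth.Agent.KoszulCech
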