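import Mathlib.Algebra.Category.ModuleCat.Basic
import Mathlib.Algebra.Module.LocalizedModule.Basic
import Mathlib.Algebra.BigOperators.Fin
import Mathlib.Data.Fin.Parity
import Mathlib.Tactic.LinearCombination
import Mathlib.Data.Finset.Image
import Mathlib.LinearAlgebra.Pi

/-!
# Systems of localisations and their augmented Cech cochains
-/

set_option autoImplicit false

noncomputable section

universe u

open Finset

namespace Groth.Agent.KoszulCech

/-- Compatible localisations of a module at all products of a family of elements. -/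
structure Sys (A : Type u) [CommRing A] (M : Type u) [AddCommGroup M] [Module A M]
    {ι : Type} [DecidableEq ι] (f : ι → A) where
  N : Finset ι → ModuleCat.{u} A
  η : ∀ S, M →ₗ[A] N S
  loc : ∀ S, IsLocalizedModule (Submonoid.powers (∏ j ∈ S, f j)) (η S)

variable {A : Type u} [CommRing A] {M : Type u} [AddCommGroup M] [Module A M]
  {ι : Type} [DecidableEq ι] {f : ι → A} (Z : Sys A M f)

namespace Sys

lemma isUnit_of_dvd {S T : Finset ι} (h : S ⊆ T) (x : Submonoid.powers (∏ j ∈ S, f j)) :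
    IsUnit (algebraMap A (Module.End A (Z.N T)) x) := by
  obtain ⟨_, k, rfl⟩ := x
  haveI := Z.loc T
  have hu := IsLocalizedModule.map_units (S := Submonoid.powers (∏ j ∈ T, f j)) (Z.η T)
    ⟨_, k, rfl⟩
  simp only at hu ⊢
  rw [← Finset.prod_sdiff h, mul_pow, map_mul] at hu
  exact ((Commute.isUnit_mul_iff
    ((Commute.all ((∏ j ∈ T \ S, f j) ^ k) ((∏ j ∈ S, f j) ^ k)).map
      (algebraMap A (Module.End A (Z.N T))))).1 hu).2

lemma isUnit_mem {S : Finset ι} {a : ι} (h : a ∈ S) (n : ℕ) :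
    IsUnit (algebraMap A (Module.End A (Z.N S)) (f a ^ n)) :=
  Z.isUnit_of_dvd (Finset.singleton_subset_iff.2 h) ⟨f a ^ n, n, by simp⟩

open scoped Classical in
/-- The transition map; zero when there is none. -/
def tr (S T : Finset ι) : Z.N S →ₗ[A] Z.N T :=
  if h : S ⊆ T then
    haveI := Z.loc S
    IsLocalizedModule.lift (Submonoid.powers (∏ j ∈ S, f j)) (Z.η S) (Z.η T) (Z.isUnit_of_dvd h)
  else 0

lemma tr_η {S T : Finset ι} (h : S ⊆ T) (m : M) : Z.tr S T (Z.η S m) = Z.η T m := by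
  haveI := Z.loc S
  rw [tr, dif_pos h]
  exact IsLocalizedModule.lift_apply _ _ _ _ m

lemma tr_zero {S T : Finset ι} (h : ¬ S ⊆ T) : Z.tr S T = 0 := by rw [tr, dif_neg h]

lemma tr_tr {S T U : Finset ι} (h : S ⊆ T) (h' : T ⊆ U) (x : Z.N S) :
    Z.tr T U (Z.tr S T x) = Z.tr S U x := by
  haveI := Z.loc S
  refine LinearMap.congr_fun (IsLocalizedModule.ext (Submonoid.powers (∏ j ∈ S, f j)) (Z.η S)
    (j := (Z.tr T U).comp (Z.tr S T)) (k := Z.tr S U) (Z.isUnit_of_dvd (h.trans h')) ?_) x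
  ext m
  simp only [LinearMap.comp_apply, Z.tr_η h, Z.tr_η h', Z.tr_η (h.trans h')]

lemma tr_self {S : Finset ι} (x : Z.N S) : Z.tr S S x = x := by
  haveI := Z.loc S
  refine LinearMap.congr_fun (IsLocalizedModule.ext (Submonoid.powers (∏ j ∈ S, f j)) (Z.η S)
    (j := Z.tr S S) (k := LinearMap.id) (Z.isUnit_of_dvd subset_rfl) ?_) x
  ext m
  simp only [LinearMap.comp_apply, Z.tr_η subset_rfl, LinearMap.id_apply]

/-- `N (insert a S)` is the localisation of `N S` at `f a`: surjectivity. -/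
lemma exists_pow_smul_eq_tr {S : Finset ι} (a : ι) {T : Finset ι} (hT : T = insert a S) (y : Z.N T) :
    ∃ (k : ℕ) (x : Z.N S), f a ^ k • y = Z.tr S T x := by
  subst hT
  by_cases ha : a ∈ S
  · refine ⟨0, Z.tr (insert a S) S y, ?_⟩
    rw [Z.tr_tr (by rw [Finset.insert_eq_of_mem ha]) (Finset.subset_insert _ _), Z.tr_self,
      pow_zero, one_smul]
  haveI := Z.loc (insert a S)
  haveI := Z.loc S
  obtain ⟨⟨m, ⟨_, k, rfl⟩⟩, hy⟩ := IsLocalizedModule.surj
    (Submonoid.powers (∏ j ∈ insert a S, f j)) (Z.η (insert a S)) y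
  refine ⟨k, IsLocalizedModule.mk' (Z.η S) m (⟨_, k, rfl⟩ : Submonoid.powers (∏ j ∈ S, f j)), ?_⟩
  have hu := Z.isUnit_of_dvd (Finset.subset_insert a S) ⟨_, k, rfl⟩
  apply ((Module.End.isUnit_iff _).1 hu).1
  show (∏ j ∈ S, f j) ^ k • f a ^ k • y = (∏ j ∈ S, f j) ^ k • Z.tr S _ _
  rw [← map_smul]
  have : (∏ j ∈ S, f j) ^ k • IsLocalizedModule.mk' (Z.η S) m
      (⟨_, k, rfl⟩ : Submonoid.powers (∏ j ∈ S, f j)) = Z.η S m :=
    IsLocalizedModule.mk'_cancel' (Z.η S) m (⟨_, k, rfl⟩ : Submonoid.powers (∏ j ∈ S, f j))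
  rw [this, Z.tr_η (Finset.subset_insert a S), smul_smul, ← mul_pow, mul_comm,
    ← Finset.prod_insert ha]
  exact hy

/-- `N (insert a S)` is the localisation of `N S` at `f a`: kernel. -/
lemma exists_pow_smul_eq_zero {S : Finset ι} (a : ι) {T : Finset ι} (hT : T = insert a S) (x : Z.N S)
    (hx : Z.tr S T x = 0) : ∃ k : ℕ, f a ^ k • x = 0 := by
  subst hT
  by_cases ha : a ∈ S
  · refine ⟨0, ?_⟩
    have h2 := congrArg (Z.tr (insert a S) S) hx
    rw [Z.tr_tr (Finset.subset_insert _ _) (by rw [Finset.insert_eq_of_mem ha]), Z.tr_self,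
      map_zero] at h2
    rw [h2, smul_zero]
  haveI := Z.loc (insert a S)
  haveI := Z.loc S
  obtain ⟨⟨m, ⟨_, j, rfl⟩⟩, hm⟩ := IsLocalizedModule.surj
    (Submonoid.powers (∏ j ∈ S, f j)) (Z.η S) x
  have h1 : Z.η (insert a S) m = 0 := by
    rw [← Z.tr_η (Finset.subset_insert a S), ← hm]
    show Z.tr _ _ ((∏ j ∈ S, f j) ^ j • x) = 0
    rw [map_smul, hx, smul_zero]
  obtain ⟨⟨_, k, rfl⟩, hk⟩ := (IsLocalizedModule.eq_zero_iff
    (Submonoid.powers (∏ j ∈ insert a S, f j)) (Z.η (insert a S))).1 h1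
  refine ⟨k, ((Module.End.isUnit_iff _).1
    (Z.isUnit_of_dvd (subset_refl S) ⟨_, k + j, rfl⟩)).1 ?_⟩
  show (∏ j ∈ S, f j) ^ (k + j) • f a ^ k • x = (∏ j ∈ S, f j) ^ (k + j) • 0
  rw [smul_zero, smul_smul, pow_add, mul_right_comm, ← mul_pow, mul_comm (∏ j ∈ S, f j),
    ← Finset.prod_insert ha, mul_smul]
  have h2 : (∏ j ∈ S, f j) ^ j • x = Z.η S m := hm
  rw [h2, ← map_smul]
  exact (congrArg (Z.η S) hk).trans (map_zero _)

end Sys

variable {κ : Type} (e : κ → ι)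

/-- Cochains of degree `p` with values in the localisations at `T` and the tuple. -/
abbrev C (T : Finset ι) (p : ℕ) : Type u :=
  ∀ i : Fin p → κ, Z.N (T ∪ univ.image (e ∘ i))

/-- The image of a face. -/
lemma face_subset {p : ℕ} (i : Fin (p + 1) → κ) (k : Fin (p + 1)) :
    univ.image (e ∘ i ∘ k.succAbove) ⊆ univ.image (e ∘ i) := by
  intro x hx
  simp only [mem_image, mem_univ, true_and, Function.comp_apply] at hx ⊢
  obtain ⟨a, rfl⟩ := hx
  exact ⟨_, rfl⟩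

/-- Weighted coface sum. -/
def D (c : κ → ℤ) (T T' : Finset ι) {p : ℕ} : C Z e T p →ₗ[A] C Z e T' (p + 1) :=
  LinearMap.pi fun i => ∑ k : Fin (p + 1), ((-1) ^ (k : ℕ) * c (i k)) •
    (Z.tr _ _).comp (LinearMap.proj (i ∘ k.succAbove))

lemma D_apply (c : κ → ℤ) (T T' : Finset ι) {p : ℕ} (s : C Z e T p) (i : Fin (p + 1) → κ) :
    D Z e c T T' s i = ∑ k : Fin (p + 1), ((-1) ^ (k : ℕ) * c (i k)) •
      Z.tr _ (T' ∪ univ.image (e ∘ i)) (s (i ∘ k.succAbove)) := by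
  simp [D, LinearMap.sum_apply]

/-- `c` only weighs indices making up for the difference between `T` and `T'`. -/
def Adm (c : κ → ℤ) (T T' : Finset ι) : Prop := ∀ x, c x ≠ 0 → T ⊆ insert (e x) T'

lemma Adm.refl (c : κ → ℤ) (T : Finset ι) : Adm e c T T := fun _ _ => subset_insert _ _

lemma Adm.of_subset (c : κ → ℤ) {T T' : Finset ι} (h : T ⊆ T') : Adm e c T T' :=
  fun _ _ => h.trans (subset_insert _ _)

variable {e}

lemma subset_of_adm {c : κ → ℤ} {T T' : Finset ι} (h : Adm e c T T') {p : ℕ}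
    (i : Fin (p + 1) → κ) (k : Fin (p + 1)) (hk : c (i k) ≠ 0) :
    T ∪ univ.image (e ∘ i ∘ k.succAbove) ⊆ T' ∪ univ.image (e ∘ i) := by
  refine union_subset ((h _ hk).trans ?_) ((face_subset e i k).trans subset_union_right)
  refine insert_subset (mem_union_right _ ?_) subset_union_left
  exact mem_image.2 ⟨k, mem_univ _, rfl⟩

/-- The two-face term. -/
def term2 (u v : κ → ℤ) (T₀ T₂ : Finset ι) {p : ℕ} (s : C Z e T₀ p) (i : Fin (p + 2) → κ)
    (z : Fin (p + 2) × Fin (p + 1)) : Z.N (T₂ ∪ univ.image (e ∘ i)) :=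
  (((-1) ^ (z.1 : ℕ) * u (i z.1)) * ((-1) ^ (z.2 : ℕ) * v (i (z.1.succAbove z.2)))) •
    Z.tr _ _ (s ((i ∘ z.1.succAbove) ∘ z.2.succAbove))

lemma D_D_apply {u v : κ → ℤ} {T₀ T₁ T₂ : Finset ι} (hv : Adm e v T₀ T₁) (hu : Adm e u T₁ T₂)
    {p : ℕ} (s : C Z e T₀ p) (i : Fin (p + 2) → κ) :
    D Z e u T₁ T₂ (D Z e v T₀ T₁ s) i = ∑ z, term2 Z u v T₀ T₂ s i z := by
  rw [D_apply, Fintype.sum_prod_type]
  refine Finset.sum_congr rfl fun k _ => ?_
  rw [D_apply, map_sum, Finset.smul_sum]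
  refine Finset.sum_congr rfl fun j _ => ?_
  rw [map_zsmul, smul_smul, term2]
  by_cases h1 : u (i k) = 0
  · rw [h1]; simp
  by_cases h2 : v (i (k.succAbove j)) = 0
  · simp only [Function.comp_apply, h2]; simp
  rw [Z.tr_tr (subset_of_adm hv _ _ (by simpa using h2)) (subset_of_adm hu i k h1)]
  rfl

/-- The involution on pairs of faces. -/
def flip {p : ℕ} (z : Fin (p + 2) × Fin (p + 1)) : Fin (p + 2) × Fin (p + 1) :=
  (z.1.succAbove z.2, z.2.predAbove z.1)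

lemma flip_flip {p : ℕ} (z : Fin (p + 2) × Fin (p + 1)) : flip (flip z) = z := by
  obtain ⟨i, j⟩ := z
  simp [flip, Fin.succAbove_succAbove_predAbove, Fin.predAbove_predAbove_succAbove]

lemma term2_flip (u v : κ → ℤ) (T₀ T₂ : Finset ι) {p : ℕ} (s : C Z e T₀ p) (i : Fin (p + 2) → κ)
    (z : Fin (p + 2) × Fin (p + 1)) :
    term2 Z u v T₀ T₂ s i (flip z) = - term2 Z v u T₀ T₂ s i z := by
  obtain ⟨k, j⟩ := z
  have hidx : (i ∘ (k.succAbove j).succAbove) ∘ (j.predAbove k).succAbove =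
      (i ∘ k.succAbove) ∘ j.succAbove := funext fun a => by
    simp [Fin.succAbove_succAbove_succAbove_predAbove]
  have hsw : ∀ (a b : Fin p → κ), a = b → Z.tr _ (T₂ ∪ univ.image (e ∘ i)) (s a) =
      Z.tr _ (T₂ ∪ univ.image (e ∘ i)) (s b) := by rintro a b rfl; rfl
  simp only [term2, flip, Fin.succAbove_succAbove_predAbove, ← neg_smul]
  congr 1
  · have h := Fin.neg_one_pow_succAbove_add_predAbove (R := ℤ) k j
    rw [pow_add, pow_add] at h
    linear_combination (u (i (k.succAbove j)) * v (i k)) * h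
  · exact hsw _ _ hidx

/-- Anticommutation. -/
lemma D_D_add {u v : κ → ℤ} {T₀ T₁ T₁' T₂ : Finset ι} (hv : Adm e v T₀ T₁) (hu : Adm e u T₁ T₂)
    (hu' : Adm e u T₀ T₁') (hv' : Adm e v T₁' T₂) {p : ℕ} (s : C Z e T₀ p) :
    D Z e u T₁ T₂ (D Z e v T₀ T₁ s) + D Z e v T₁' T₂ (D Z e u T₀ T₁' s) = 0 := by
  funext i
  rw [Pi.add_apply, D_D_apply Z hv hu, D_D_apply Z hu' hv', Pi.zero_apply,
    ← Equiv.sum_comp (⟨flip, flip, flip_flip, flip_flip⟩ : _ ≃ _) (term2 Z u v T₀ T₂ s i)]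
  simp [term2_flip, Finset.sum_neg_distrib]

/-- Squares vanish. -/
lemma D_D_self {u : κ → ℤ} {T₀ T₁ T₂ : Finset ι} (h : Adm e u T₀ T₁) (h' : Adm e u T₁ T₂)
    {p : ℕ} (s : C Z e T₀ p) : D Z e u T₁ T₂ (D Z e u T₀ T₁ s) = 0 := by
  funext i
  rw [D_D_apply Z h h', Pi.zero_apply]
  refine Finset.sum_involution (fun z _ => flip z) (fun z _ => ?_) (fun z _ _ hz => ?_)
    (fun _ _ => mem_univ _) (fun z _ => flip_flip z)
  · rw [term2_flip, add_neg_cancel]
  · exact Fin.succAbove_ne z.1 z.2 (congrArg Prod.fst hz)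

/-- The differential. -/
def d (T : Finset ι) {p : ℕ} : C Z e T p →ₗ[A] C Z e T (p + 1) := D Z e (fun _ => 1) T T

lemma d_d (T : Finset ι) {p : ℕ} (s : C Z e T p) : d Z T (d Z T s) = 0 :=
  D_D_self Z (Adm.refl e _ T) (Adm.refl e _ T) s

/-- Boundaries. -/
def IsBd (T : Finset ι) : ∀ {p : ℕ}, C Z e T p → Prop
  | 0, s => s = 0
  | _ + 1, s => ∃ w, d Z T w = s

/-- Change of the base set. -/
def loc (T T' : Finset ι) {p : ℕ} : C Z e T p →ₗ[A] C Z e T' p :=
  LinearMap.pi fun i => (Z.tr _ _).comp (LinearMap.proj i)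

lemma loc_apply (T T' : Finset ι) {p : ℕ} (s : C Z e T p) (i : Fin p → κ) :
    loc Z T T' s i = Z.tr _ _ (s i) := rfl

lemma D_loc {c : κ → ℤ} {T T' T'' : Finset ι} (h : T ⊆ T') (hc : Adm e c T' T'') {p : ℕ}
    (s : C Z e T p) : D Z e c T' T'' (loc Z T T' s) = D Z e c T T'' s := by
  funext i
  simp only [D_apply, loc_apply]
  refine Finset.sum_congr rfl fun k _ => ?_
  by_cases h1 : c (i k) = 0
  · rw [h1]; simp
  rw [Z.tr_tr (union_subset_union_left h) (subset_of_adm hc i k h1)]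

lemma loc_D {c : κ → ℤ} {T T' T'' : Finset ι} (hc : Adm e c T T') (h : T' ⊆ T'') {p : ℕ}
    (s : C Z e T p) : loc Z T' T'' (D Z e c T T' s) = D Z e c T T'' s := by
  funext i
  simp only [D_apply, loc_apply, map_sum, map_zsmul]
  refine Finset.sum_congr rfl fun k _ => ?_
  by_cases h1 : c (i k) = 0
  · rw [h1]; simp
  rw [Z.tr_tr (subset_of_adm hc i k h1) (union_subset_union_left h)]

lemma loc_d {T T' : Finset ι} (h : T ⊆ T') {p : ℕ} (s : C Z e T p) :
    loc Z T T' (d Z T s) = d Z T' (loc Z T T' s) :=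
  (loc_D Z (Adm.refl e _ T) h s).trans (D_loc Z h (Adm.refl e _ T') s).symm

end Groth.Agent.KoszulCech
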